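import Cfsg.Agent.Lib.M12S.B1
import Cfsg.Agent.Lib.M12S.G0
import Cfsg.Agent.Lib.Block.ZStar

/-!
# Sylow `2`-subgroups of type `A₈`: the elementary abelian subgroup of order sixteen
-/

set_option autoImplicit false
set_option linter.unusedSectionVars false
set_option maxRecDepth 100000
set_option synthInstance.maxSize 100000
set_option synthInstance.maxHeartbeats 400000

namespace Cfsg.Lib.M12S.TA

open Subgroup Cfsg.Lib.X32 Cfsg.Lib.Core Cfsg.Lib.BG1 Cfsg.Lib.Invol Cfsg.Lib.GW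
open Cfsg.Lib.Amalg hiding le_cent_symm op_top

universe u

local notation "⟪" n "⟫" => TA.el n

local instance : Fact (Nat.Prime 2) := ⟨Nat.prime_two⟩

variable {G : Type u} [Group G] [Finite G] {ψ : TA →* G} {g h n : G} {k l k' l' : TA} {f f' : ℕ → ℕ} {a b c d p q r w v : ℕ}

instance (k l : TA) : Decidable (k ∈ 𝐂[l]) := decidable_of_iff _ mem_centralizer_singleton_iff.symm

abbrev At : Subgroup TA := sg (bm 0x4821482148214821) (by decide +kernel)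
abbrev QA : Subgroup TA := sg (fun h => h.1 < 32) (by decide +kernel)

theorem zc : ∀ k : TA, k * ⟪16⟫ = ⟪16⟫ * k := by decide +kernel

/-- Coordinates on the elementary abelian subgroup. -/
def av (v : ℕ) : TA := el (Nat.shiftRight 0xbbeeebd65c2039e6cb545400 (Nat.mul 6 v))
/-- A linear map. -/
def ln (p q r w v : ℕ) : ℕ := Nat.xor (Nat.xor (cond (Nat.testBit v 0) p 0) (cond (Nat.testBit v 1) q 0))
  (Nat.xor (cond (Nat.testBit v 2) r 0) (cond (Nat.testBit v 3) w 0))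
/-- The action of the coset representatives. -/
def tt (a v : ℕ) : ℕ := Nat.land (Nat.shiftRight 0x89badcef76452310ab98efdc67542310cdef98ba67453210fedcba9876543210
  (Nat.mul 4 (Nat.add (Nat.mul 16 a) v))) 15
/-- The coset representatives. -/
def tb (a : ℕ) : TA := el (Nat.shiftRight 0x07060a00 (Nat.mul 8 a))
/-- Normal form of a linear map. -/
def nf (f : ℕ → ℕ) : ℕ → ℕ := ln (f 1) (f 2) (f 4) (f 8)
/-- The basis is fixed. -/
def Fx (f : ℕ → ℕ) : Prop := f 1 = 1 ∧ f 2 = 2 ∧ f 4 = 4 ∧ f 8 = 8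
instance (f : ℕ → ℕ) : Decidable (Fx f) := by unfold Fx; infer_instance
/-- Order four. -/
def O4 (f : ℕ → ℕ) : Prop := Fx (nf (f ∘ f) ∘ nf (f ∘ f)) ∧ ¬ Fx (f ∘ f)
instance (f : ℕ → ℕ) : Decidable (O4 f) := by unfold O4; infer_instance

theorem ln1 : ln p q r w 1 = p := by change (p ^^^ 0) ^^^ (0 ^^^ 0) = p; simp
theorem ln2 : ln p q r w 2 = q := by change (0 ^^^ q) ^^^ (0 ^^^ 0) = q; simp
theorem ln4 : ln p q r w 4 = r := by change (0 ^^^ 0) ^^^ (r ^^^ 0) = r; simp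
theorem ln8 : ln p q r w 8 = w := by change (0 ^^^ 0) ^^^ (0 ^^^ w) = w; simp
theorem av0 : av 0 = 1 := by decide +kernel
theorem av_xor : ∀ v < 16, ∀ w < 16, Nat.xor v w < 16 ∧ av (Nat.xor v w) = av v * av w := by decide +kernel
theorem av_mem : ∀ v < 16, av v ∈ At := by decide +kernel
theorem av_ex : ∀ k ∈ At, ∃ v < 16, av v = k := by decide +kernel
theorem av_inj : ∀ v < 16, ∀ w < 16, av v = av w → v = w := by decide +kernel

/-- One value of the action. -/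
def R1 (ψ : TA →* G) (g : G) (a b : ℕ) : Prop := a < 16 ∧ b < 16 ∧ Cj ψ g (av a) (av b)
/-- The action on the elementary abelian subgroup. -/
def Ab (ψ : TA →* G) (g : G) (f : ℕ → ℕ) : Prop := ∀ v < 16, R1 ψ g v (f v)

theorem R1.xor (h1 : R1 ψ g a b) (h2 : R1 ψ g c d) : R1 ψ g (Nat.xor a c) (Nat.xor b d) :=
  ⟨(av_xor a h1.1 c h2.1).1, (av_xor b h1.2.1 d h2.2.1).1,
    (h1.2.2.mul h2.2.2).cast (av_xor a h1.1 c h2.1).2.symm (av_xor b h1.2.1 d h2.2.1).2.symm⟩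

theorem R1.cond (h1 : R1 ψ g a b) (c : Bool) : R1 ψ g (cond c a 0) (cond c b 0) := by
  cases c
  exacts [⟨Nat.zero_lt_succ _, Nat.zero_lt_succ _, Cj.one.cast av0.symm av0.symm⟩, h1]

theorem ab_ln (h1 : R1 ψ g 1 p) (h2 : R1 ψ g 2 q) (h3 : R1 ψ g 4 r) (h4 : R1 ψ g 8 w) : Ab ψ g (ln p q r w) := fun v hv => by
  have := ((h1.cond (Nat.testBit v 0)).xor (h2.cond (Nat.testBit v 1))).xor ((h3.cond (Nat.testBit v 2)).xor (h4.cond (Nat.testBit v 3)))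
  rwa [show Nat.xor _ _ = v from (by decide +kernel : ∀ v < 16, ln 1 2 4 8 v = v) v hv] at this

namespace Ab

theorem mul (h1 : Ab ψ g f) (h2 : Ab ψ h f') : Ab ψ (g * h) (f ∘ f') := fun v hv =>
  ⟨hv, (h1 _ (h2 v hv).2.1).2.1, (h2 v hv).2.2.comp (h1 _ (h2 v hv).2.1).2.2⟩
theorem nf (h1 : Ab ψ g f) : Ab ψ g (nf f) := ab_ln (h1 1 (by decide)) (h1 2 (by decide)) (h1 4 (by decide)) (h1 8 (by decide))
theorem t (ha : a < 4) : Ab ψ (ψ (tb a)) (tt a) := fun v hv =>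
  have := (by decide +kernel : ∀ a < 4, ∀ v < 16, tt a v < 16 ∧ tb a * av v * (tb a)⁻¹ = av (tt a v)) a ha v hv
  ⟨hv, this.1, Cj.of' _ this.2⟩
theorem norm (h1 : Ab ψ g f) : g ∈ 𝐍(At.map ψ) := mem_normalizer_of_cj_le (cj_le_iff'.2 (by
  rintro _ ⟨k, hk, rfl⟩
  obtain ⟨v, hv, rfl⟩ := av_ex k hk
  exact ⟨_, av_mem _ (h1 v hv).2.1, Eq.symm (h1 v hv).2.2⟩))
theorem cen (h1 : Ab ψ g f) (e : Fx f) : g ∈ 𝐂(At.map ψ) := by
  rintro _ ⟨k, hk, rfl⟩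
  obtain ⟨v, hv, rfl⟩ := av_ex k hk
  have := (h1.nf v hv).2.2
  rw [TA.nf, e.1, e.2.1, e.2.2.1, e.2.2.2, (by decide +kernel : ∀ v < 16, ln 1 2 4 8 v = v) v hv] at this
  exact this.comm.symm
theorem fx (hi : Function.Injective ψ) (h1 : Ab ψ g f) (e : g ∈ 𝐂(At.map ψ)) : Fx f :=
  have k : ∀ v < 16, f v = v := fun v hv => av_inj _ (h1 v hv).2.1 _ hv
    ((h1 v hv).2.2.uniq hi (.of_comm (e _ (mem_map_of_mem ψ (av_mem v hv))).symm))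
  ⟨k 1 (by decide), k 2 (by decide), k 4 (by decide), k 8 (by decide)⟩
theorem val (hi : Function.Injective ψ) (h1 : Ab ψ g f) (hv : v < 16) (hw : w < 16) (e : Cj ψ g (av v) (av w)) : f v = w :=
  av_inj _ (h1 v hv).2.1 _ hw ((h1 v hv).2.2.uniq hi e)
theorem inj (hi : Function.Injective ψ) (h1 : Ab ψ g f) : ∀ v < 16, f v = 0 → v = 0 := fun v hv e =>
  av_inj _ hv _ (by decide) (Cj.un' hi (h1 v hv).2.2 (by rw [e, av0]; exact Cj.one))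

end Ab

theorem exA (hn : n ∈ 𝐍(At.map ψ)) (hk : k ∈ At) : ∃ l ∈ At, Cj ψ n k l := by
  obtain ⟨l, l1, l2⟩ := (cj_of_mem_normalizer hn).le (conj_mem_cj n (mem_map_of_mem ψ hk))
  exact ⟨l, l1, l2.symm⟩

theorem exists_ln (hn : n ∈ 𝐍(At.map ψ)) : ∃ p < 16, ∃ q < 16, ∃ r < 16, ∃ w < 16, Ab ψ n (ln p q r w) := by
  have k : ∀ v < 16, ∃ p, R1 ψ n v p := fun v hv => by
    obtain ⟨l, l1, l2⟩ := exA hn (av_mem v hv)
    obtain ⟨p, hp, rfl⟩ := av_ex l l1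
    exact ⟨p, hv, hp, l2⟩
  obtain ⟨p, hp⟩ := k 1 (by decide)
  obtain ⟨q, hq⟩ := k 2 (by decide)
  obtain ⟨r, hr⟩ := k 4 (by decide)
  obtain ⟨w, hw⟩ := k 8 (by decide)
  exact ⟨p, hp.2.1, q, hq.2.1, r, hr.2.1, w, hw.2.1, ab_ln hp hq hr hw⟩

theorem TA_N (k : TA) : ψ k ∈ 𝐍(At.map ψ) := mem_normalizer_of_cj_le (cj_le_iff'.2 (by
  rintro _ ⟨l, hl, rfl⟩
  exact ⟨_, (by decide +kernel : ∀ k, ∀ l ∈ At, k * l * k⁻¹ ∈ At) k l hl, by simp⟩))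

theorem odd_mem {C : Subgroup G} {x y : G} (hx : x ∈ zpowers y) (ho : Odd (orderOf x)) (h : y ^ 4 ∈ C) : x ∈ C := by
  obtain ⟨i, rfl⟩ := hx
  have h1 : (y ^ i) ^ 4 ∈ C := by
    rw [← zpow_natCast, ← zpow_mul, mul_comm, zpow_mul, zpow_natCast]; exact zpow_mem h i
  obtain ⟨m, hm⟩ := exists_pow_eq_self_of_coprime (x := y ^ i) (n := 4)
    (Nat.Coprime.pow_left 2 (Nat.coprime_two_left.2 ho))
  have := pow_mem h1 m
  rwa [hm] at this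

theorem n1 : ∀ q < 16, ∀ r < 16, ∀ w < 16, (∀ v < 16, ln 1 q r w v = 0 → v = 0) → (q < 8 ∧ r < 8) ∨
    O4 (nf (ln 1 q r w ∘ tt 1)) ∨ O4 (nf (ln 1 q r w ∘ tt 2 ∘ ln 1 q r w ∘ tt 3)) ∨
    O4 (nf (ln 1 q r w ∘ tt 1 ∘ ln 1 q r w ∘ nf (nf (ln 1 q r w ∘ ln 1 q r w) ∘ nf (ln 1 q r w ∘ ln 1 q r w)) ∘ tt 2)) ∨
    O4 (nf (nf (nf (ln 1 q r w ∘ ln 1 q r w) ∘ nf (ln 1 q r w ∘ ln 1 q r w)) ∘ tt 1 ∘ ln 1 q r w ∘
      nf (nf (ln 1 q r w ∘ ln 1 q r w) ∘ nf (ln 1 q r w ∘ ln 1 q r w)) ∘ tt 1)) := by decide +kernel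

/-- A Sylow subgroup of type `A₈`. -/
structure Sy (ψ : TA →* G) : Prop where
  inj : Function.Injective ψ
  syl : Syl 2 ψ.range ⊤

namespace Sy

variable (s : Sy ψ)
include s

theorem mm {H : Subgroup TA} : ψ k ∈ H.map ψ ↔ k ∈ H := mem_map_iff_mem s.inj

theorem uniqA (hc : cj g (At.map ψ) ≤ ψ.range) : g ∈ 𝐍(At.map ψ) := by
  have hi := s.inj
  refine mem_normalizer_of_cj_le (cj_le_iff'.2 ?_)
  rintro _ ⟨k, hk, rfl⟩
  obtain ⟨l, hl⟩ := Cj.ex hc hk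
  refine ⟨l, by_contra fun e => ?_, Eq.symm hl⟩
  have cA := (by decide +kernel : ∀ a ∈ At, ∀ b ∈ At, a * b = b * a ∧ a * a = 1)
  obtain ⟨h1, p, p1, q, q1, h2⟩ := (by decide +kernel : ∀ l, l ∉ At → l * l = 1 →
    (Finset.univ.filter fun a => a * l = l * a).card = 16 ∧ ∃ p ∈ 𝐂[l], ∃ q ∈ 𝐂[l], p * q ≠ q * p) l e
    ((Cj.sq hi hl).2 (cA k hk k hk).2)
  have e1 : cj g (At.map ψ) = (𝐂[l]).map ψ := eq_of_le_of_card_ge (cj_le_iff'.2 (by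
    rintro _ ⟨a, ha, rfl⟩
    obtain ⟨b, hb⟩ := Cj.ex hc ha
    exact ⟨b, mem_centralizer_singleton_iff.2 ((Cj.com hi hb hl).2 (cA a ha k hk).1), Eq.symm hb⟩)) (by
    rw [card_cj, card_map_of_injective hi, card_map_of_injective hi, card_cent, h1, card_sg]; decide +kernel)
  obtain ⟨_, ⟨a, a1, rfl⟩, a2⟩ := e1.ge (mem_map_of_mem ψ p1)
  obtain ⟨_, ⟨b, b1, rfl⟩, b2⟩ := e1.ge (mem_map_of_mem ψ q1)
  exact h2 ((Cj.com hi a2 b2).2 (cA a a1 b b1).1)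

theorem ext {Y R : Subgroup G} (hA : At.map ψ ≤ Y) (hR : IsPGroup 2 R) (h : R ≤ Y) :
    ∃ c ∈ Y, ∃ m ∈ 𝐍(At.map ψ), cj (m * c) R ≤ ψ.range := by
  obtain ⟨P, P1, P2⟩ := exists_syl_ge ((pg.to_subgroup At).map ψ) hA
  obtain ⟨c, c1, c2⟩ := P1.exists_conj_le hR h
  obtain ⟨m, -, m2⟩ := s.syl.exists_conj_le P1.isPGroup le_top
  exact ⟨c, c1, m, s.uniqA ((cj_mono m P2).trans m2), by rw [cj_mul]; exact (cj_mono m c2).trans m2⟩

omit s in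
theorem A_le (hl : l ∈ At) : At.map ψ ≤ 𝐂[ψ l] := by
  rintro _ ⟨a, ha, rfl⟩
  exact mem_cen ((by decide +kernel : ∀ a ∈ At, ∀ b ∈ At, a * b = b * a) a ha l hl)

omit s in
theorem cj_le {H : Subgroup TA} (e : Cj ψ g k l) (h : ∀ a ∈ H, a * k = k * a) : cj g (H.map ψ) ≤ 𝐂[ψ l] := by
  rw [← show _ = ψ l from e, ← cj_centralizer_singleton]
  exact cj_mono g (by rintro _ ⟨a, ha, rfl⟩; exact mem_cen (h a ha))

theorem ctl (hk : k ∈ At) (hk' : k' ∈ At) (hl : l ∈ At) (hl' : l' ∈ At) (e : Cj ψ g k l) (e' : Cj ψ g k' l') :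
    ∃ n ∈ 𝐍(At.map ψ), Cj ψ n k l ∧ Cj ψ n k' l' := by
  have cA := (by decide +kernel : ∀ b ∈ At, ∀ a ∈ At, a * b = b * a)
  obtain ⟨c, c1, m, m1, m2⟩ := s.ext (le_inf (A_le hl) (A_le hl')) (isPGroup_cj g ((pg.to_subgroup At).map ψ))
    (le_inf (cj_le e (cA k hk)) (cj_le e' (cA k' hk')))
  rw [← cj_mul, mul_assoc] at m2
  exact ⟨c * g, (mul_mem_cancel_left m1).1 (s.uniqA m2), e.comp (.of_comm (mem_centralizer_singleton_iff.1 c1.1)),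
    e'.comp (.of_comm (mem_centralizer_singleton_iff.1 c1.2))⟩

theorem l4 (hg : g ∈ 𝐍(At.map ψ)) (h4 : g ^ 4 ∈ 𝐂(At.map ψ)) : g * g ∈ 𝐂(At.map ψ) := by
  obtain ⟨x, x1, o, o1, x2, o2, e⟩ := exists_two_odd g
  have oC := odd_mem o1 o2 h4
  have xN := zpowers_le.2 hg x1
  obtain ⟨m, m1, m2⟩ := (s.syl.of_le (K := 𝐍(At.map ψ)) (by rintro _ ⟨k, rfl⟩; exact TA_N k) le_top).exists_conj_le
    x2.isPGroup (zpowers_le.2 xN)
  obtain ⟨k, hk⟩ := m2 (conj_mem_cj m (mem_zpowers x))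
  have : x * x ∈ 𝐂(At.map ψ) := by
    rw [show x * x = m⁻¹ * (ψ k * ψ k) * m⁻¹⁻¹ by rw [hk]; simp [mul_assoc], ← map_mul]
    refine conj_mem_norm (mem_norm_centS (inv_mem m1)) ?_
    rintro _ ⟨a, ha, rfl⟩
    rw [← map_mul, ← map_mul, (by decide +kernel : ∀ k, ∀ a ∈ At, a * (k * k) = k * k * a) k a ha]
  rw [e, show x * o * (x * o) = x * o * x⁻¹ * (x * x) * o by group]
  exact mul_mem (mul_mem (conj_mem_norm (mem_norm_centS xN) oC) this) oC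

theorem no4 (h1 : Ab ψ g f) : ¬ O4 f := fun e => e.2 ((h1.mul h1).fx s.inj (s.l4 h1.norm (by
  have := ((h1.mul h1).nf.mul (h1.mul h1).nf).cen e.1
  rwa [show g * g * (g * g) = g ^ 4 by simp only [pow_succ, pow_zero, one_mul, mul_assoc]] at this)))

/-- The stabiliser of `z` preserves the hyperplane. -/
theorem stab (hn : n ∈ 𝐍(At.map ψ)) (hz : Cj ψ n ⟪16⟫ ⟪16⟫) : ∃ q < 8, ∃ r < 8, ∃ w < 16, Ab ψ n (ln 1 q r w) := by
  obtain ⟨p, hp, q, hq, r, hr, w, hw, a⟩ := exists_ln hn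
  obtain rfl : p = 1 := ln1.symm.trans
    (a.val s.inj (by decide) (by decide) hz)
  have t1 : Ab ψ _ (tt 1) := Ab.t (by decide)
  have t2 : Ab ψ _ (tt 2) := Ab.t (by decide)
  have t3 : Ab ψ _ (tt 3) := Ab.t (by decide)
  have a4 := ((a.mul a).nf.mul (a.mul a).nf).nf
  rcases n1 q hq r hr w hw (a.inj s.inj) with e | e | e | e | e
  · exact ⟨q, e.1, r, e.2, w, hw, a⟩
  · exact (s.no4 (a.mul t1).nf e).elim
  · exact (s.no4 (a.mul (t2.mul (a.mul t3))).nf e).elim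
  · exact (s.no4 (a.mul (t1.mul (a.mul (a4.mul t2)))).nf e).elim
  · exact (s.no4 (a4.mul (t1.mul (a.mul (a4.mul t1)))).nf e).elim

end Sy

end Cfsg.Lib.M12S.TA
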