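import Cfsg.Agent.Lib.A8S.A0

/-!
# Sylow `2`-subgroups of type `A₈`: the centraliser of the central involution
-/

set_option autoImplicit false
set_option linter.unusedSectionVars false
set_option maxRecDepth 100000
set_option synthInstance.maxSize 100000
set_option synthInstance.maxHeartbeats 400000

namespace Cfsg.Lib.M12S.TA

open Subgroup Cfsg.Lib.X32 Cfsg.Lib.Core Cfsg.Lib.BG1 Cfsg.Lib.Invol Cfsg.Lib.GW Equiv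
open Cfsg.Lib.Amalg hiding le_cent_symm op_top

universe u v

local notation "⟪" n "⟫" => TA.el n

local instance : Fact (Nat.Prime 2) := ⟨Nat.prime_two⟩

variable {X : Type u} [Group X] [Finite X] {ψ : TA →* X} {g h n x : X} {k l k' l' : TA}

abbrev Et : Subgroup TA := sg (bm 0x48214821) (by decide +kernel)

theorem Sy.stabE (s : Sy ψ) (hn : n ∈ 𝐍(At.map ψ)) (hz : Cj ψ n ⟪16⟫ ⟪16⟫) (hk : k ∈ Et) (e : Cj ψ n k l) : l ∈ Et := by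
  obtain ⟨q, hq, r, hr, w, hw, a⟩ := s.stab hn hz
  obtain ⟨v, hv, rfl⟩ := (by decide +kernel : ∀ k ∈ Et, ∃ v < 8, av v = k) k hk
  rw [e.uniq s.inj (a v (by omega)).2.2]
  exact (by decide +kernel : ∀ q < 8, ∀ r < 8, ∀ w < 16, ∀ v < 8, av (ln 1 q r w v) ∈ Et) q hq r hr w hw v hv

def nA : Fin 6 → TA := ![⟪1⟫, ⟪2⟫, ⟪3⟫, ⟪4⟫, ⟪8⟫, ⟪12⟫]

/-- The data of the model. -/
def md : Md TA where
  Q := QA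
  z := ⟪16⟫
  n := nA
  pg := pg
  zc := zc
  zz := by decide +kernel
  z1 := by decide +kernel
  zQ := by decide +kernel
  nQ := by decide +kernel
  nsq := by decide +kernel
  ns := by decide +kernel
  ninj := by decide +kernel
  gen := by decide +kernel
  sq := by decide +kernel
  cQ := by decide +kernel
  cm := by decide +kernel
  nrm := by decide +kernel
  sing := by decide +kernel
  cen := by decide +kernel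
  nab := by decide +kernel
  card := (card_sg _ _).trans (by decide +kernel)

def τ : Perm (Fin 6) := ⟨![3, 5, 4, 0, 2, 1], ![3, 5, 4, 0, 2, 1], by decide, by decide⟩
def c3 : Perm (Fin 6) := ⟨![1, 2, 0, 3, 4, 5], ![2, 0, 1, 3, 4, 5], by decide, by decide⟩
def G6 : List (Perm (Fin 6)) := [1, τ, x1, x1⁻¹, τ * x1, τ * x1⁻¹]
def G18 : List (Perm (Fin 6)) := G6 ++ G6.map (· * x2) ++ G6.map (· * x2⁻¹)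
/-- The classes of `⟪11⟫` and `⟪14⟫`. -/
abbrev nz : TA → Prop := bm 0x48004800

theorem d1 : ∀ ν, Pres ν → 3 ≤ ((ν⁻¹ * τ * ν) 0).1 := by decide +kernel
theorem d2 : ∀ γ, Pres γ → γ ^ 3 = 1 ∨ 3 ≤ ((γ ^ 3) 0).1 → (γ * τ) ^ 3 = 1 ∨ 3 ≤ (((γ * τ) ^ 3) 0).1 → γ ∈ G18 := by
  decide +kernel
theorem d3 : ∀ k : TA, ∃ γ ∈ [1, τ], ∀ i, k * nA i * k⁻¹ = nA (γ i) ∨ k * nA i * k⁻¹ = nA (γ i) * ⟪16⟫ := by decide +kernel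
theorem d4 : ∀ γ ∈ G6, γ * γ = 1 ∨ (γ * γ * γ = 1 ∧ (∀ δ ∈ G6, δ * δ = 1 → γ * δ = δ * γ → δ = 1) ∧
    ∀ c, (W nA γ c = W nA id c ∨ W nA γ c = W nA id c * ⟪16⟫) → W nA id c = 1) := by decide +kernel

/-- Relations of an element of order three centralising one of the quaternion factors. -/
structure Rl {Y : Type*} [Group Y] (χ : TA →* Y) (x : Y) : Prop where
  x3 : x * x * x = 1
  c1 : Cj χ x ⟪1⟫ ⟪2⟫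
  c2 : Cj χ x ⟪2⟫ ⟪3⟫
  c4 : Cj χ x ⟪4⟫ ⟪4⟫
  c8 : Cj χ x ⟪8⟫ ⟪8⟫
  com : x * (χ ⟪32⟫ * x * (χ ⟪32⟫)⁻¹) = χ ⟪32⟫ * x * (χ ⟪32⟫)⁻¹ * x

/-- The centraliser of order `576`. -/
structure Mo {Y : Type*} [Group Y] (χ : TA →* Y) (x : Y) : Prop extends Rl χ x where
  inj : Function.Injective χ
  gen : ∀ g, ∃ k, ∃ i j : ℕ, g = χ k * x ^ i * (χ ⟪32⟫ * x * (χ ⟪32⟫)⁻¹) ^ j
  uq : ∀ k, ∀ i < 3, ∀ j < 3, χ k * x ^ i * (χ ⟪32⟫ * x * (χ ⟪32⟫)⁻¹) ^ j = 1 → i = 0 ∧ j = 0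

omit [Finite X] in
theorem act_W {a b c d : TA} (c1 : Cj ψ x ⟪1⟫ a) (c2 : Cj ψ x ⟪2⟫ b) (c4 : Cj ψ x ⟪4⟫ c) (c8 : Cj ψ x ⟪8⟫ d) (e) :
    Cj ψ x (W nA id e) (pw e.1 a * (pw e.2.1 b * (pw e.2.2.1 c * pw e.2.2.2 d))) := by
  have k : ∀ {p q : TA}, Cj ψ x p q → ∀ c, Cj ψ x (pw c p) (pw c q) := fun h c => by
    cases c
    exacts [Cj.one, h]
  exact (k c1 _).mul ((k c2 _).mul ((k c4 _).mul (k c8 _)))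

/-- Hypotheses on the centraliser. -/
structure St (ψ : TA →* X) : Prop extends Sy ψ where
  cen : ∀ g, Cj ψ g ⟪16⟫ ⟪16⟫

theorem St.closed (s : St ψ) (hk : k ∈ QA) (hg : Cj ψ g k l) : l ∈ QA := by
  have hi := s.inj
  by_contra hl
  have kk : k * k = 1 := (md.sq k hk).resolve_right fun e => hl (md.sqQ ((hg.mul hg).uniq hi ((s.cen g).cast e.symm rfl)))
  have lA := (by decide +kernel : ∀ l, l ∉ QA → l * l = 1 → l ∈ At) l hl ((Cj.sq hi hg).2 kk)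
  obtain ⟨c, c1, m, m1, m2⟩ := s.ext (Sy.A_le lA) (isPGroup_cj g ((pg.to_subgroup 𝐂[k]).map ψ))
    (Sy.cj_le hg fun a ha => mem_centralizer_singleton_iff.1 ha)
  rw [← cj_mul] at m2
  obtain ⟨y, y1, y2⟩ := exA m1 lA
  have y3 : Cj ψ (m * c * g) k y := ((hg.comp (.of_comm (mem_centralizer_singleton_iff.1 c1))).comp y2).cast' (mul_assoc _ _ _).symm
  obtain ⟨p, p1, q, q1, e⟩ := (by decide +kernel : ∀ k ∈ QA, k * k = 1 → ∃ p ∈ 𝐂[k], ∃ q ∈ 𝐂[k], p * q ≠ q * p) k hk kk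
  obtain ⟨p', p2⟩ := Cj.ex m2 p1
  obtain ⟨q', q2⟩ := Cj.ex m2 q1
  have y4 := (by decide +kernel : ∀ y ∈ At, y ∈ Et ∨ ∀ p, p * y = y * p → ∀ q, q * y = y * q → p * q = q * p) y y1
  exact hl ((by decide +kernel : ∀ l ∈ Et, l ∈ QA) l (s.stabE (inv_mem m1) (s.cen _) (y4.resolve_right fun h => e
    ((Cj.com hi p2 q2).1 (h _ ((Cj.com hi p2 y3).2 (mem_centralizer_singleton_iff.1 p1)) _
      ((Cj.com hi q2 y3).2 (mem_centralizer_singleton_iff.1 q1))))) y2.symm))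

variable {σ : 𝐍 (md.Q.map ψ) →* Perm (Fin 6)}

theorem St.g18 (s : St ψ) (c : md.Sg ψ σ) (g) : σ g ∈ G18 := by
  have k : ∀ g, σ g ^ 3 = 1 ∨ 3 ≤ ((σ g ^ 3) 0).1 := fun g => by
    obtain ⟨h1, n, k, h2⟩ := c.cube s.inj s.syl (by decide +kernel) g
    obtain ⟨γ, h3, h4⟩ := d3 k
    rw [c.eq s.inj (g := ⟨ψ k, md.TN k⟩) (τ := γ) fun i => (h4 i).imp (Cj.of' k) (Cj.of' k)] at h2
    simp only [List.mem_cons, List.not_mem_nil, or_false] at h3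
    rcases h3 with rfl | rfl
    · exact .inl (conj_eq_one_iff.1 h2)
    · exact .inr (by have := d1 _ (c.cube s.inj s.syl (by decide +kernel) n).1; rwa [← h2, ← mul_assoc, ← mul_assoc,
        inv_mul_cancel, one_mul, inv_mul_cancel_right] at this)
  have t : σ ⟨ψ ⟪32⟫, md.TN _⟩ = τ := c.eq s.inj fun i => ((by decide +kernel : ∀ i, ⟪32⟫ * nA i * ⟪32⟫⁻¹ = nA (τ i) ∨
    ⟪32⟫ * nA i * ⟪32⟫⁻¹ = nA (τ i) * ⟪16⟫) i).imp (Cj.of' _) (Cj.of' _)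
  exact d2 _ (c.cube s.inj s.syl (by decide +kernel) g).1 (k g) (by rw [← t, ← map_mul]; exact k _)

/-- The action on the six nonsingular vectors. -/
structure Ph (ψ : TA →* X) (Φ : X →* Perm (Fin 6)) : Prop extends St ψ where
  nrm : (QA.map ψ).Normal
  ker : ∀ g, Φ g = 1 ↔ g ∈ QA.map ψ
  mem : ∀ g, Φ g ∈ G18
  act : ∀ g i, Cz ψ ⟪16⟫ g (nA i) (nA (Φ g i))
  t : Φ (ψ ⟪32⟫) = τ
  fp : ∀ g, Φ g ∈ G6 → Φ g * Φ g ≠ 1 → ∀ q ∈ QA.map ψ, g * q * g⁻¹ = q → q = 1 ∨ q = ψ ⟪16⟫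

theorem St.ph (s : St ψ) (hO : pPrimeCore 2 X = ⊥) (hs : Group.IsSolvable X) : ∃ Φ, Ph ψ Φ := by
  have hi := s.inj
  obtain ⟨σ, c⟩ := md.exists_sg hi s.cen
  obtain ⟨h1, h2⟩ := c.normal s.inj s.cen s.syl hO (fun _ _ _ => s.closed) (.inl hs)
  have top : ∀ y, y ∈ 𝐍 (md.Q.map ψ) := fun y => (normalizer_eq_top_iff.2 h1).ge (mem_top y)
  let Φ : X →* Perm (Fin 6) := σ.comp ((MonoidHom.id X).codRestrict _ top)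
  refine ⟨Φ, s, h1, fun g => ⟨h2 ⟨g, top g⟩, by rintro ⟨k, hk, rfl⟩; exact c.Q hi hk⟩, fun g => s.g18 c _,
    fun g => c ⟨g, top g⟩, c.eq hi fun i => ((by decide +kernel : ∀ i, ⟪32⟫ * nA i * ⟪32⟫⁻¹ = nA (τ i) ∨
    ⟪32⟫ * nA i * ⟪32⟫⁻¹ = nA (τ i) * ⟪16⟫) i).imp (Cj.of' _) (Cj.of' _), ?_⟩
  rintro g h6 h _ ⟨k, hk, rfl⟩ e
  obtain ⟨w, w1, w2⟩ := c.img hi s.cen ⟨g, top g⟩ hk (.inl e)
  have := ((d4 _ h6).resolve_left h).2.2 w (by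
    rcases w1 with w1 | w1 <;> rcases w2 with w2 | w2
    exacts [.inl (w2.symm.trans w1), .inr (by rw [← show k = W nA id w from w1, w2]; exact (md.zzc _).symm),
      .inr (w2.symm.trans w1), .inl (mul_right_cancel (w2.symm.trans w1))])
  rcases w1 with w1 | w1 <;> rw [w1, show W md.n id w = 1 from this] <;> simp [md]

namespace Ph

variable {Φ : X →* Perm (Fin 6)} (s : Ph ψ Φ)
include s

theorem im (g i j l) (e : Cj ψ g (nA i * nA j) l) : l = nA (Φ g i) * nA (Φ g j) ∨ l = nA (Φ g i) * nA (Φ g j) * ⟪16⟫ :=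
  md.cz_uniq s.inj (.inl e) (md.cz_mul (s.act g i) (s.act g j))

theorem im' (g i j l) (h1 : ∃ r, r * (nA (Φ g i) * nA (Φ g j)) * r⁻¹ = l) (h2 : ∃ r, r * (nA (Φ g i) * nA (Φ g j) * ⟪16⟫) * r⁻¹ = l) :
    ∃ g, Cj ψ g (nA i * nA j) l := by
  obtain ⟨r, e⟩ := h1
  obtain ⟨r', e'⟩ := h2
  exact (md.cz_mul (s.act g i) (s.act g j)).elim (fun h => ⟨_, h.comp (Cj.of' r e)⟩) fun h => ⟨_, h.comp (Cj.of' r' e')⟩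

theorem imA (g i j l) (e : Cj ψ g (nA i * nA j) l) (hl : l ∈ At) : nA (Φ g i) * nA (Φ g j) ∈ At := by
  rcases s.im g i j l e with rfl | rfl
  exacts [hl, (At.mul_mem_cancel_right (by decide +kernel)).1 hl]

theorem rule (e : Cj ψ g ⟪5⟫ l) (e' : Cj ψ g ⟪10⟫ l') (h : l ∈ At) (h' : l' ∈ At) : False :=
  (by decide +kernel : ∀ γ ∈ G18, nA (γ 0) * nA (γ 3) ∈ At → nA (γ 1) * nA (γ 4) ∉ At) _ (s.mem g)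
    (s.imA g 0 3 l e h) (s.imA g 1 4 l' e' h')

theorem of_ne (h : Φ g * τ ≠ τ * Φ g) : ∃ y, Φ y = x1 := by
  rcases (by decide +kernel : ∀ γ ∈ G18, γ * τ ≠ τ * γ → γ * τ * γ⁻¹ * τ = x1 ∨ γ * τ * γ⁻¹ * τ * (γ * τ * γ⁻¹ * τ) = x1)
    _ (s.mem g) h with e | e
  exacts [⟨g * ψ ⟪32⟫ * g⁻¹ * ψ ⟪32⟫, by simp only [map_mul, map_inv, s.t, e]⟩,
    ⟨g * ψ ⟪32⟫ * g⁻¹ * ψ ⟪32⟫ * (g * ψ ⟪32⟫ * g⁻¹ * ψ ⟪32⟫), by simp only [map_mul, map_inv, s.t, e]⟩]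

theorem ex1 (hk : k = ⟪10⟫ ∨ k = ⟪6⟫ ∨ k = ⟪7⟫) (e : Cj ψ g k l) (h : l ∈ At) : ∃ y, Φ y = x1 := by
  refine s.of_ne (g := g) fun e' => ?_
  have := (by decide +kernel : ∀ γ ∈ G18, γ * τ = τ * γ → nA (γ 1) * nA (γ 4) ∉ At ∧ nA (γ 1) * nA (γ 3) ∉ At ∧
    nA (γ 2) * nA (γ 3) ∉ At) _ (s.mem g) e'
  rcases hk with rfl | rfl | rfl
  exacts [this.1 (s.imA g 1 4 l e h), this.2.1 (s.imA g 1 3 l e h), this.2.2 (s.imA g 2 3 l e h)]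

theorem fuse (h : ∃ y, Φ y = x1) : (∃ g, Cj ψ g ⟪5⟫ ⟪10⟫) ∧ (∃ g, Cj ψ g ⟪11⟫ ⟪6⟫) ∧ ∃ g, Cj ψ g ⟪14⟫ ⟪7⟫ := by
  obtain ⟨y, hy⟩ := h
  exact ⟨s.im' y 0 3 _ (by rw [hy]; decide +kernel) (by rw [hy]; decide +kernel),
    s.im' y 2 4 _ (by rw [hy]; decide +kernel) (by rw [hy]; decide +kernel),
    s.im' y 1 5 _ (by rw [hy]; decide +kernel) (by rw [hy]; decide +kernel)⟩

theorem Φk (k : TA) : Φ (ψ k) = 1 ∨ Φ (ψ k) = τ := by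
  rcases (by decide +kernel : ∀ k, k ∈ QA ∨ k * ⟪32⟫⁻¹ ∈ QA) k with e | e
  · exact .inl ((s.ker _).2 (mem_map_of_mem ψ e))
  · have := (s.ker _).2 (mem_map_of_mem ψ e)
    rw [map_mul, map_inv, map_mul, map_inv, s.t, mul_inv_eq_one] at this
    exact .inr this

theorem six (h : ¬ ∃ y, Φ y = x1) (h2 : ∃ g, Cj ψ g ⟪10⟫ ⟪6⟫) : ((⊤ : Subgroup TA).map ψ).Normal ∧
    ∃ y, Cz ψ ⟪16⟫ y ⟪10⟫ ⟪7⟫ ∧ Cz ψ ⟪16⟫ y ⟪7⟫ ⟪13⟫ ∧ Cz ψ ⟪16⟫ y ⟪5⟫ ⟪14⟫ := by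
  have c : ∀ g, Φ g * τ = τ * Φ g := fun g => by_contra fun e => h (s.of_ne e)
  refine ⟨⟨?_⟩, ?_⟩
  · rintro _ ⟨k, -, rfl⟩ g
    rcases s.Φk k with e | e
    · obtain ⟨q, -, hq⟩ := (s.ker (g * ψ k * g⁻¹)).1 (by simp [e])
      exact ⟨q, trivial, hq⟩
    · obtain ⟨q, -, hq⟩ := (s.ker (g * ψ k * g⁻¹ * (ψ ⟪32⟫)⁻¹)).1 (by simp [e, s.t, c])
      exact ⟨q * ⟪32⟫, trivial, by simp [hq]⟩
  obtain ⟨g, hg⟩ := h2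
  obtain ⟨y, hy⟩ : ∃ y, Φ y = x2 := by
    rcases (by decide +kernel : ∀ γ ∈ G18, γ * τ = τ * γ → (⟪6⟫ = nA (γ 1) * nA (γ 4) ∨ ⟪6⟫ = nA (γ 1) * nA (γ 4) * ⟪16⟫) →
      γ * γ = x2 ∨ γ * γ * (γ * γ) = x2) _ (s.mem g) (c g) (s.im g 1 4 _ hg) with e | e
    exacts [⟨g * g, by rw [map_mul, e]⟩, ⟨g * g * (g * g), by simp only [map_mul, e]⟩]
  have k := fun i j => md.cz_mul (s.act y i) (s.act y j)
  rw [hy] at k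
  exact ⟨y, k 1 4, k 2 3, k 0 3⟩

theorem pow4 (h : Φ g * Φ g * Φ g = 1) : g ^ 4 * g ^ 4 * g ^ 4 = 1 ∧ Φ (g ^ 4) = Φ g := by
  obtain ⟨k, k1, k2⟩ := (s.ker (g * g * g)).1 (by rw [map_mul, map_mul, h])
  refine ⟨?_, by rw [map_pow, show Φ g ^ 4 = Φ g * Φ g * Φ g * Φ g by simp only [pow_succ, pow_zero, one_mul], h, one_mul]⟩
  rw [show g ^ 4 * g ^ 4 * g ^ 4 = (g * g * g) ^ 4 by simp only [pow_succ, pow_zero, one_mul, mul_assoc], ← k2, ← map_pow,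
    (by decide +kernel : ∀ k ∈ QA, k ^ 4 = 1) k k1, map_one]

theorem sym3 (h : ∃ y, Φ y = x1) (hn : ∀ g l, Cj ψ g ⟪5⟫ l → ¬ nz l) :
    (∀ e d : X, e * e = 1 → e ≠ 1 → e ≠ ψ ⟪16⟫ → Odd (orderOf d) → d * e = e * d → d = 1) ∧
    ∃ x, FP (QA.map ψ) (ψ ⟪16⟫) x ∧
      (∀ u, u * u = 1 → u ∉ QA.map ψ → u * (x * u * x⁻¹) * x⁻¹ ∈ QA.map ψ) ∧
      ∀ t, t * t = 1 → t ∉ QA.map ψ → ∀ l, ∃ k ∈ [1, x, x⁻¹, t, t * x, t * x⁻¹], l * k⁻¹ ∈ QA.map ψ := by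
  obtain ⟨y, hy⟩ := h
  have Φk := s.ker
  have k : ∀ g, ¬ nz (nA (Φ g 0) * nA (Φ g 3)) := fun g e => by
    rcases md.cz_mul (s.act g 0) (s.act g 3) with e' | e'
    · exact hn _ _ e' e
    · exact hn _ _ e' ((by decide +kernel : ∀ l, nz l → nz (l * ⟪16⟫)) _ e)
  have Φ6 : ∀ g, Φ g ∈ G6 := fun g => (by decide +kernel : ∀ γ ∈ G18, ¬ nz (nA (γ 0) * nA (γ 3)) →
    ¬ nz (nA ((x1 * γ) 0) * nA ((x1 * γ) 3)) → ¬ nz (nA ((x1⁻¹ * γ) 0) * nA ((x1⁻¹ * γ) 3)) → γ ∈ G6) _ (s.mem g) (k g)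
    (by rw [← hy, ← map_mul]; exact k _) (by rw [← hy, ← map_inv, ← map_mul]; exact k _)
  obtain ⟨y2, y1⟩ := s.pow4 (g := y) (by rw [hy]; decide +kernel)
  rw [hy] at y1
  refine ⟨fun e d e1 e2 e3 d1 d2 => ?_, y ^ 4, ⟨md.es s.inj, y2, s.cen _,
    fun q hq => s.nrm.conj_mem q hq _, s.fp _ (Φ6 _) (by rw [y1]; decide +kernel)⟩, fun u u1 u2 => (Φk _).1 ?_, fun t t1 t2 l => ?_⟩
  · have : Φ d = 1 := by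
      by_contra h
      have h3 : Φ d * Φ d ≠ 1 := fun e => h (TB.odd_eq_one (d1.of_dvd_nat (orderOf_map_dvd Φ d)) e)
      exact (s.fp d (Φ6 d) h3 e ((Φk e).1 (((d4 _ (Φ6 d)).resolve_left h3).2.1 _ (Φ6 e) (by rw [← map_mul, e1, map_one])
        (by rw [← map_mul, d2, map_mul]))) (mul_inv_eq_iff_eq_mul.2 d2)).elim e2 e3
    exact Two.eq_one (GW.Two.of_mem ((pg.to_subgroup _).map ψ) ((Φk d).1 this)) d1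
  · simp only [map_mul, map_inv, y1]
    exact (by decide +kernel : ∀ γ ∈ G6, γ * γ = 1 → γ ≠ 1 → γ * (x1 * γ * x1⁻¹) * x1⁻¹ = 1) _ (Φ6 u)
      (by rw [← map_mul, u1, map_one]) fun e => u2 ((Φk u).1 e)
  · have := (by decide +kernel : ∀ γ ∈ G6, γ * γ = 1 → γ ≠ 1 → ∀ δ ∈ G6,
      ∃ k ∈ [1, x1, x1⁻¹, γ, γ * x1, γ * x1⁻¹], δ * k⁻¹ = 1) _ (Φ6 t)
      (by rw [← map_mul, t1, map_one]) (fun e => t2 ((Φk t).1 e)) _ (Φ6 l)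
    simp only [List.mem_cons, List.not_mem_nil, or_false, exists_eq_or_imp, exists_eq_left, ← Φk, map_mul, map_inv, y1,
      map_one] at this ⊢
    exact this

theorem ex3 (h : ∃ y, Φ y = x1) (e : Cj ψ g ⟪5⟫ l) (hl : nz l) : ∃ y, Φ y = c3 := by
  obtain ⟨y, hy⟩ := h
  obtain ⟨i, -, j, -, m, -, e⟩ := (by decide +kernel : ∀ γ ∈ G18, nz (nA (γ 0) * nA (γ 3)) →
    ∃ i < 3, ∃ j < 3, ∃ m < 2, (γ * τ ^ m) ^ j * x1 ^ i = c3) _ (s.mem g) (by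
      rcases s.im g 0 3 l e with rfl | rfl
      exacts [hl, (by decide +kernel : ∀ l, nz (l * ⟪16⟫) → nz l) _ hl])
  exact ⟨(g * ψ ⟪32⟫ ^ m) ^ j * y ^ i, by simp only [map_mul, map_pow, s.t, hy, e]⟩

theorem fuse3 (h : ∃ y, Φ y = c3) : (∃ g, Cj ψ g ⟪5⟫ ⟪11⟫) ∧ ∃ g, Cj ψ g ⟪5⟫ ⟪14⟫ := by
  obtain ⟨y, hy⟩ := h
  have e1 : Φ (y⁻¹ * (ψ ⟪32⟫ * y⁻¹ * ψ ⟪32⟫)) = x2⁻¹ := by simp only [map_mul, map_inv, hy, s.t]; decide +kernel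
  have e2 : Φ (y * (ψ ⟪32⟫ * y * ψ ⟪32⟫)) = x2 := by simp only [map_mul, hy, s.t]; decide +kernel
  exact ⟨s.im' _ 0 3 _ (by rw [e1]; decide +kernel) (by rw [e1]; decide +kernel),
    s.im' _ 0 3 _ (by rw [e2]; decide +kernel) (by rw [e2]; decide +kernel)⟩

theorem mo (h : ∃ y, Φ y = c3) : ∃ x, Mo ψ x := by
  have hi := s.inj
  obtain ⟨y, hy⟩ := h
  obtain ⟨y2, y1⟩ := s.pow4 (g := y) (by rw [hy]; decide +kernel)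
  rw [hy] at y1
  generalize y ^ 4 = y at y1 y2
  have a := s.act y
  rw [y1] at a
  have fx : ∀ k, Cz ψ ⟪16⟫ y k k → Cj ψ y k k := fun k e => e.elim id fun e => by
    have e1 := (e.mul (s.cen y)).cast rfl (md.zzc k)
    have := ((e.comp e1).comp e).cast' ((mul_assoc _ _ _).symm.trans y2)
    exact absurd (left_eq_mul.1 (Cj.id.uniq hi this)) md.z1
  obtain ⟨p, p1, p2⟩ : ∃ p, (p = ⟪2⟫ ∨ p = ⟪2⟫ * ⟪16⟫) ∧ Cj ψ y ⟪1⟫ p := (a 0).elim (fun e => ⟨_, .inl rfl, e⟩) fun e => ⟨_, .inr rfl, e⟩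
  obtain ⟨q, q1, q2⟩ : ∃ p, (p = ⟪3⟫ ∨ p = ⟪3⟫ * ⟪16⟫) ∧ Cj ψ y ⟪2⟫ p := (a 1).elim (fun e => ⟨_, .inl rfl, e⟩) fun e => ⟨_, .inr rfl, e⟩
  obtain ⟨r, r1, r4, r8, r2, r3⟩ := (by decide +kernel : ∀ p, (p = ⟪2⟫ ∨ p = ⟪2⟫ * ⟪16⟫) → ∀ q, (q = ⟪3⟫ ∨ q = ⟪3⟫ * ⟪16⟫) →
    ∃ r ∈ QA, r * ⟪4⟫ * r⁻¹ = ⟪4⟫ ∧ r * ⟪8⟫ * r⁻¹ = ⟪8⟫ ∧
    ((r * ⟪1⟫ * r⁻¹ = ⟪1⟫ ∧ r * p * r⁻¹ = ⟪2⟫) ∨ (r * ⟪1⟫ * r⁻¹ * ⟪16⟫ = ⟪1⟫ ∧ r * p * r⁻¹ * ⟪16⟫ = ⟪2⟫)) ∧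
    ((r * ⟪2⟫ * r⁻¹ = ⟪2⟫ ∧ r * q * r⁻¹ = ⟪3⟫) ∨ (r * ⟪2⟫ * r⁻¹ * ⟪16⟫ = ⟪2⟫ ∧ r * q * r⁻¹ * ⟪16⟫ = ⟪3⟫))) p p1 q q1
  have c1 : Cj ψ (ψ r * y * (ψ r)⁻¹) ⟪1⟫ ⟪2⟫ := r2.elim (fun e => (p2.conj r).cast e.1 e.2)
    fun e => ((p2.conj r).mul (s.cen _)).cast e.1 e.2
  have c2 : Cj ψ (ψ r * y * (ψ r)⁻¹) ⟪2⟫ ⟪3⟫ := r3.elim (fun e => (q2.conj r).cast e.1 e.2)
    fun e => ((q2.conj r).mul (s.cen _)).cast e.1 e.2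
  have c4 := ((fx _ (a 3)).conj r).cast r4 r4
  have c8 := ((fx _ (a 4)).conj r).cast r8 r8
  have x3 : ψ r * y * (ψ r)⁻¹ * (ψ r * y * (ψ r)⁻¹) * (ψ r * y * (ψ r)⁻¹) = 1 := by rw [conj_mul, conj_mul, y2]; simp
  have Φx : Φ (ψ r * y * (ψ r)⁻¹) = c3 := by simp [y1, (s.ker _).2 (mem_map_of_mem ψ r1)]
  generalize ψ r * y * (ψ r)⁻¹ = x at c1 c2 c4 c8 x3 Φx
  have Φy : Φ (ψ ⟪32⟫ * x * (ψ ⟪32⟫)⁻¹) = τ * c3 * τ⁻¹ := by simp only [map_mul, map_inv, Φx, s.t]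
  refine ⟨x, ⟨x3, c1, c2, c4, c8, ?_⟩, hi, fun g => ?_, fun k i i3 j j3 e => ?_⟩
  · have c3 : Cj ψ x ⟪3⟫ ⟪1⟫ := (c1.mul c2).cast (by decide +kernel) (by decide +kernel)
    have d1 : Cj ψ (ψ ⟪32⟫ * x * (ψ ⟪32⟫)⁻¹) ⟪1⟫ ⟪1⟫ := (c4.conj ⟪32⟫).inv.cast (by decide +kernel) (by decide +kernel)
    have d3 : Cj ψ (ψ ⟪32⟫ * x * (ψ ⟪32⟫)⁻¹) ⟪3⟫ ⟪3⟫ := (c8.conj ⟪32⟫).inv.cast (by decide +kernel) (by decide +kernel)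
    have d4 := c1.conj ⟪32⟫
    have d5 := c2.conj ⟪32⟫
    have d6 := c3.conj ⟪32⟫
    have x3' : ψ ⟪32⟫ * x * (ψ ⟪32⟫)⁻¹ * (ψ ⟪32⟫ * x * (ψ ⟪32⟫)⁻¹) * (ψ ⟪32⟫ * x * (ψ ⟪32⟫)⁻¹) = 1 := by
      rw [conj_mul, conj_mul, x3]; simp
    generalize ψ ⟪32⟫ * x * (ψ ⟪32⟫)⁻¹ = y at d1 d3 d4 d5 d6 Φy x3'
    obtain ⟨q, q1, q2⟩ := (s.ker (x * y * x⁻¹ * y⁻¹)).1 (by simp only [map_mul, map_inv, Φx, Φy]; decide +kernel)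
    have f1 : ∀ k, (k = ⟪32⟫ * ⟪1⟫ * ⟪32⟫⁻¹ ∨ k = ⟪32⟫ * ⟪2⟫ * ⟪32⟫⁻¹ ∨ k = ⟪32⟫ * ⟪3⟫ * ⟪32⟫⁻¹) → Cj ψ x k k := fun k hk => by
      rcases hk with rfl | rfl | rfl
      exacts [c4.inv.cast (by decide +kernel) (by decide +kernel), (c4.mul c8).inv.cast (by decide +kernel) (by decide +kernel),
        c8.inv.cast (by decide +kernel) (by decide +kernel)]
    have d2 : Cj ψ y ⟪2⟫ ⟪2⟫ := (d3.mul d1).cast (by decide +kernel) (by decide +kernel)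
    have g1 : ∀ {a b}, Cj ψ x a b → Cj ψ y a a → Cj ψ y b b → q * b = b * q := fun h1 h2 h3 => hi (by
      rw [map_mul, map_mul, q2]
      exact ((((h3.symm.comp h1.symm).comp h2).comp h1).cast' (by group)).comm)
    have g2 : ∀ {a b}, Cj ψ y a b → Cj ψ x a a → Cj ψ x b b → q * b = b * q := fun h1 h2 h3 => hi (by
      rw [map_mul, map_mul, q2]
      exact ((((h1.symm.comp h2.symm).comp h1).comp h3).cast' (by group)).comm)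
    rcases (by decide +kernel : ∀ q ∈ QA, q * ⟪2⟫ = ⟪2⟫ * q → q * ⟪3⟫ = ⟪3⟫ * q →
      q * (⟪32⟫ * ⟪2⟫ * ⟪32⟫⁻¹) = ⟪32⟫ * ⟪2⟫ * ⟪32⟫⁻¹ * q → q * (⟪32⟫ * ⟪3⟫ * ⟪32⟫⁻¹) = ⟪32⟫ * ⟪3⟫ * ⟪32⟫⁻¹ * q →
      q = 1 ∨ q = ⟪16⟫) q q1 (g1 c1 d1 d2) (g1 c2 d2 d3) (g2 d4 (f1 _ (.inl rfl)) (f1 _ (.inr (.inl rfl))))
      (g2 d5 (f1 _ (.inr (.inl rfl))) (f1 _ (.inr (.inr rfl)))) with rfl | rfl
    · rw [map_one, eq_comm, mul_inv_eq_one, mul_inv_eq_iff_eq_mul] at q2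
      exact q2
    · have e1 : x * y * x⁻¹ = ψ ⟪16⟫ * y := by rw [q2]; group
      have e2 : x * y * x⁻¹ * (x * y * x⁻¹) * (x * y * x⁻¹) = 1 := by rw [conj_mul, conj_mul, x3']; simp
      have e3 := (s.cen y).comm
      rw [e1, show ψ ⟪16⟫ * y * (ψ ⟪16⟫ * y) * (ψ ⟪16⟫ * y) = ψ ⟪16⟫ * (y * ψ ⟪16⟫) * (y * ψ ⟪16⟫) * y by group, e3,
        show ψ ⟪16⟫ * (ψ ⟪16⟫ * y) * (ψ ⟪16⟫ * y) * y = ψ ⟪16⟫ * ψ ⟪16⟫ * (y * ψ ⟪16⟫) * y * y by group, e3, ← map_mul,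
        show ⟪16⟫ * ⟪16⟫ = 1 from md.zz, map_one, one_mul, mul_assoc, mul_assoc, ← mul_assoc y, x3', mul_one] at e2
      exact absurd (hi (e2.trans ψ.map_one.symm)) md.z1
  · obtain ⟨m, -, i, -, j, -, e⟩ := (by decide +kernel : ∀ γ ∈ G18, ∃ m < 2, ∃ i < 3, ∃ j < 3,
      γ * (τ ^ m * c3 ^ i * (τ * c3 * τ⁻¹) ^ j)⁻¹ = 1) _ (s.mem g)
    obtain ⟨q, -, hq⟩ := (s.ker (g * (ψ ⟪32⟫ ^ m * x ^ i * (ψ ⟪32⟫ * x * (ψ ⟪32⟫)⁻¹) ^ j)⁻¹)).1 (by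
      rw [map_mul, map_inv, map_mul, map_mul, map_pow, map_pow, map_pow, Φy, Φx, s.t, e])
    exact ⟨q * ⟪32⟫ ^ m, i, j, by rw [map_mul, map_pow, hq]; group⟩
  · have := congrArg Φ e
    rw [map_mul, map_mul, map_pow, map_pow, Φy, Φx, map_one] at this
    exact (by decide +kernel : ∀ γ, γ = 1 ∨ γ = τ → ∀ i < 3, ∀ j < 3, γ * c3 ^ i * (τ * c3 * τ⁻¹) ^ j = 1 → i = 0 ∧ j = 0) _
      (s.Φk k) i i3 j j3 this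

end Ph

end Cfsg.Lib.M12S.TA
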