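import Cfsg.Agent.Lib.A8S.A1

/-!
# Sylow `2`-subgroups of type `A₈`: transport to the ambient group, components
-/

set_option autoImplicit false
set_option linter.unusedSectionVars false
set_option maxRecDepth 100000
set_option synthInstance.maxSize 100000
set_option synthInstance.maxHeartbeats 400000

namespace Cfsg.Lib.M12S.TA

open Subgroup Cfsg.Lib.X32 Cfsg.Lib.Core Cfsg.Lib.BG1 Cfsg.Lib.Invol Cfsg.Lib.GW Cfsg.Lib.Gsm Cfsg.Lib.Block.Scn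
open Cfsg.Lib.Amalg hiding le_cent_symm op_top
open Cfsg.Lib.Wal (PC CB)

universe u v

local notation "⟪" n "⟫" => TA.el n

local instance : Fact (Nat.Prime 2) := ⟨Nat.prime_two⟩

section Model

variable {Y : Type u} {Y' : Type v} [Group Y] [Group Y'] {χ : TA →* Y} {χ' : TA →* Y'} {x : Y} {x' : Y'}

theorem Rl.nf (h : Rl χ x) {g : Y} (hg : g ∈ closure (insert x (Set.range χ))) :
    ∃ k, ∃ i j : ℕ, g = χ k * x ^ i * (χ ⟪32⟫ * x * (χ ⟪32⟫)⁻¹) ^ j := by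
  have cz : Cj χ x ⟪16⟫ ⟪16⟫ := (h.c4.mul h.c4).cast (by decide +kernel) (by decide +kernel)
  have cQ : ∀ k ∈ QA, ∃ l, Cj χ x k l := fun k hk => by
    obtain ⟨c, rfl | rfl⟩ := md.gen k hk
    exacts [⟨_, act_W h.c1 h.c2 h.c4 h.c8 c⟩, ⟨_, (act_W h.c1 h.c2 h.c4 h.c8 c).mul cz⟩]
  have e2 : χ ⟪32⟫ * χ ⟪32⟫ = 1 := by rw [← map_mul, show ⟪32⟫ * ⟪32⟫ = 1 by decide +kernel, map_one]
  have com : Commute x (χ ⟪32⟫ * x * (χ ⟪32⟫)⁻¹) := h.com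
  have e3 : x * χ ⟪32⟫ = χ ⟪32⟫ * (χ ⟪32⟫ * x * (χ ⟪32⟫)⁻¹) := by
    rw [← mul_assoc, ← mul_assoc, e2, one_mul, inv_eq_of_mul_eq_one_left e2]
  generalize χ ⟪32⟫ * x * (χ ⟪32⟫)⁻¹ = y at com e3 ⊢
  have hx : ∀ g, (∃ k, ∃ i j : ℕ, g = χ k * x ^ i * y ^ j) → ∃ k, ∃ i j : ℕ, x * g = χ k * x ^ i * y ^ j := by
    rintro _ ⟨k, i, j, rfl⟩
    rcases (by decide +kernel : ∀ k, k ∈ QA ∨ ∃ q ∈ QA, k = q * ⟪32⟫) k with e | ⟨q, e, rfl⟩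
    · obtain ⟨l, hl⟩ := cQ k e
      exact ⟨l, i + 1, j, by rw [← show _ = χ l from hl]; group⟩
    · obtain ⟨l, hl⟩ := cQ q e
      refine ⟨l * ⟪32⟫, i, j + 1, ?_⟩
      rw [map_mul, map_mul, ← show _ = χ l from hl]
      calc _ = x * χ q * x⁻¹ * (x * χ ⟪32⟫) * x ^ i * y ^ j := by group
        _ = x * χ q * x⁻¹ * χ ⟪32⟫ * (y * x ^ i) * y ^ j := by rw [e3]; group
        _ = _ := by rw [← (com.pow_left i).eq]; group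
  have hk : ∀ l g, (∃ k, ∃ i j : ℕ, g = χ k * x ^ i * y ^ j) → ∃ k, ∃ i j : ℕ, χ l * g = χ k * x ^ i * y ^ j := by
    rintro l _ ⟨k, i, j, rfl⟩
    exact ⟨l * k, i, j, by rw [map_mul]; group⟩
  induction hg using closure_induction_left with
  | one => exact ⟨1, 0, 0, by simp⟩
  | mul_left a ha g _ ih =>
    rcases ha with rfl | ⟨l, rfl⟩
    exacts [hx g ih, hk l g ih]
  | inv_mul_cancel a ha g _ ih =>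
    rcases ha with rfl | ⟨l, rfl⟩
    · rw [inv_eq_of_mul_eq_one_left h.x3, mul_assoc]; exact hx _ (hx g ih)
    · rw [← map_inv]; exact hk _ g ih

theorem Mo.one (h : Mo χ x) (h' : Mo χ' x') {k : TA} {i j : ℕ} (e : χ k * x ^ i * (χ ⟪32⟫ * x * (χ ⟪32⟫)⁻¹) ^ j = 1) :
    χ' k * x' ^ i * (χ' ⟪32⟫ * x' * (χ' ⟪32⟫)⁻¹) ^ j = 1 := by
  have p1 : x ^ i = x ^ (i % 3) := pow_eq_pow_mod i (by rw [pow_three', h.x3])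
  have p2 : x' ^ i = x' ^ (i % 3) := pow_eq_pow_mod i (by rw [pow_three', h'.x3])
  have p3 : (χ ⟪32⟫ * x * (χ ⟪32⟫)⁻¹) ^ j = _ := pow_eq_pow_mod j (n := 3) (by rw [conj_pow, pow_three', h.x3]; simp)
  have p4 : (χ' ⟪32⟫ * x' * (χ' ⟪32⟫)⁻¹) ^ j = _ := pow_eq_pow_mod j (n := 3) (by rw [conj_pow, pow_three', h'.x3]; simp)
  rw [p1, p3] at e
  obtain ⟨e1, e2⟩ := h.uq k _ (Nat.mod_lt _ (by norm_num)) _ (Nat.mod_lt _ (by norm_num)) e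
  rw [e1, e2, pow_zero, pow_zero, mul_one, mul_one, map_eq_one_iff _ h.inj] at e
  rw [p2, p4, e1, e2, e]; simp

theorem Mo.iso (h : Mo χ x) (h' : Mo χ' x') : Nonempty (Y ≃* Y') := by
  have r : Rl (χ.prod χ') (x, x') := ⟨Prod.ext h.x3 h'.x3, Prod.ext h.c1 h'.c1, Prod.ext h.c2 h'.c2, Prod.ext h.c4 h'.c4,
    Prod.ext h.c8 h'.c8, Prod.ext h.com h'.com⟩
  let D := closure (insert (x, x') (Set.range (χ.prod χ')))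
  have m : ∀ k, ∀ i j : ℕ, χ.prod χ' k * (x, x') ^ i * (χ.prod χ' ⟪32⟫ * (x, x') * (χ.prod χ' ⟪32⟫)⁻¹) ^ j ∈ D := fun k i j =>
    have a : (x, x') ∈ D := subset_closure (.inl rfl)
    have b : ∀ k, χ.prod χ' k ∈ D := fun k => subset_closure (.inr ⟨k, rfl⟩)
    mul_mem (mul_mem (b k) (pow_mem a i)) (pow_mem (mul_mem (mul_mem (b _) a) (inv_mem (b _))) j)
  have b1 : Function.Bijective ((MonoidHom.fst Y Y').comp D.subtype) := ⟨(injective_iff_map_eq_one _).2 fun d e => by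
    obtain ⟨k, i, j, hd⟩ := r.nf d.2
    have e1 : χ k * x ^ i * (χ ⟪32⟫ * x * (χ ⟪32⟫)⁻¹) ^ j = 1 := (congrArg Prod.fst hd).symm.trans e
    exact Subtype.ext (hd.trans (Prod.ext e1 (h.one h' e1))), fun g => let ⟨k, i, j, e⟩ := h.gen g; ⟨⟨_, m k i j⟩, e.symm⟩⟩
  have b2 : Function.Bijective ((MonoidHom.snd Y Y').comp D.subtype) := ⟨(injective_iff_map_eq_one _).2 fun d e => by
    obtain ⟨k, i, j, hd⟩ := r.nf d.2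
    have e1 : χ' k * x' ^ i * (χ' ⟪32⟫ * x' * (χ' ⟪32⟫)⁻¹) ^ j = 1 := (congrArg Prod.snd hd).symm.trans e
    exact Subtype.ext (hd.trans (Prod.ext (h'.one h e1) e1)), fun g => let ⟨k, i, j, e⟩ := h'.gen g; ⟨⟨_, m k i j⟩, e.symm⟩⟩
  exact ⟨(MulEquiv.ofBijective _ b1).symm.trans (MulEquiv.ofBijective _ b2)⟩

end Model

variable {G : Type u} [Group G] [Finite G] {ψ : TA →* G} {g h n d f : G} {k l k' l' : TA} {B K X : Subgroup G}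

theorem cb_false (hK : PC K X) (hf : f ∈ CB K) (f2 : f * f = 1) (hs : Group.IsSolvable 𝐂[f]) : False := by
  have := solvable_of_odd (odd_core K)
  have := solvable_of_le (inf_le_right : K ⊓ 𝐂[f] ≤ _) hs
  have := isSolvable_sup_of_le_normalizer (H := K ⊓ 𝐂[f]) (K := 𝐎'[2](K)) (inf_le_left.trans (le_norm_piCoreOf_self _ _))
  refine Layer.IsPComponentOf.not_solvable hK (solvable_of_le (fun k hk => ?_) this)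
  have h1 := mem_core hk hf
  rw [inv_eq_of_mul_eq_one_left f2] at h1
  obtain ⟨m, hm⟩ := exists_conj_of_odd (x := k * f * k⁻¹) (by rw [conj_mul, f2]; simp) f2 (odd_of_mem (odd_core K) h1)
  have h2 := pow_mem h1 m
  generalize (k * f * k⁻¹ * f) ^ m = w at hm h2
  rw [show k = w⁻¹ * (w * k) by group]
  exact mul_mem (mem_sup_right (inv_mem h2)) (mem_sup_left ⟨mul_mem (piCoreOf_le' _ _ h2) hk,
    mem_centralizer_singleton_iff.2 (mul_inv_eq_iff_eq_mul.1 (by rw [← hm]; nth_rewrite 1 [hm]; group))⟩)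

theorem odd4 (c : SA B) (h : Cm B K X) (hF : ∀ f ∈ B, f ∈ CB K → f = 1) (h1 : d ∈ K) (h2 : d ∈ 𝐍(B)) (h4 : d ^ 4 ∈ 𝐂(B)) :
    d ∈ 𝐂(B) := by
  obtain ⟨x, x1, o, o1, x2, o2, e⟩ := exists_two_odd d
  have xN := zpowers_le.2 h2 x1
  rw [e]
  refine mul_mem (fun a ha => ?_) (odd_mem o1 o2 h4)
  exact (mul_inv_eq_iff_eq_mul.1 (mul_inv_eq_one.1 (hF _ (mul_mem (conj_mem_norm xN ha) (inv_mem ha))
    (c.two_cent h (zpowers_le.2 h1 x1) xN x2 a ha)))).symm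

theorem cj_le_CB (h : Cm B K ⊤) (e : g ∉ 𝐍(K)) : cj g K ≤ CB K :=
  Wal.Ab.le_CB_of_ne h.pc (Layer.IsPComponentOf.conj_of_mem h.pc (le_normalizer (mem_top g))) fun e' => e (cj_eq_self_iff.1 e'.symm)

/-- Conjugation in the centraliser of `z`. -/
def Cc (ψ : TA →* G) (k l : TA) : Prop := ∃ h, Cj ψ h ⟪16⟫ ⟪16⟫ ∧ Cj ψ h k l

/-- The hypotheses. -/
structure Hy (ψ : TA →* G) : Prop extends Sy ψ where
  idx : ∀ K : Subgroup G, K.index ≠ 2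
  hO : pPrimeCore 2 G = ⊥
  h2 : pCore 2 G = ⊥
  sol : Group.IsSolvable 𝐂[ψ ⟪16⟫]

/-- The structure of the centraliser. -/
structure Gz (ψ : TA →* G) : Prop where
  fr : ∀ h ∈ 𝐂[ψ ⟪16⟫], ∃ o ∈ 𝐎'[2](𝐂[ψ ⟪16⟫]), ∃ n ∈ 𝐍(QA.map ψ), h = o * n
  rule : ∀ h l l', Cj ψ h ⟪16⟫ ⟪16⟫ → Cj ψ h ⟪5⟫ l → Cj ψ h ⟪10⟫ l' → l ∈ At → l' ∉ At
  ex1 : ∀ k l, k = ⟪10⟫ ∨ k = ⟪6⟫ ∨ k = ⟪7⟫ → Cc ψ k l → l ∈ At → Cc ψ ⟪5⟫ ⟪10⟫ ∧ Cc ψ ⟪11⟫ ⟪6⟫ ∧ Cc ψ ⟪14⟫ ⟪7⟫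
  six : ¬ Cc ψ ⟪5⟫ ⟪10⟫ → Cc ψ ⟪10⟫ ⟪6⟫ → ∃ v ∈ 𝐍(At.map ψ), Cj ψ v ⟪16⟫ ⟪16⟫ ∧
    Cz ψ ⟪16⟫ v ⟪10⟫ ⟪7⟫ ∧ Cz ψ ⟪16⟫ v ⟪7⟫ ⟪13⟫ ∧ Cz ψ ⟪16⟫ v ⟪5⟫ ⟪14⟫
  sym3 : Cc ψ ⟪5⟫ ⟪10⟫ → (∀ l, Cc ψ ⟪5⟫ l → ¬ nz l) → OD (fun _ => True) (ψ ⟪16⟫) ∧
    (𝐎'[2](𝐂[ψ ⟪16⟫]) = ⊥ → ∃ x, FP (QA.map ψ) (ψ ⟪16⟫) x ∧
    (∀ u, u * ψ ⟪16⟫ = ψ ⟪16⟫ * u → u * u = 1 → u ∉ QA.map ψ → u * (x * u * x⁻¹) * x⁻¹ ∈ QA.map ψ) ∧
    ∀ t, t * ψ ⟪16⟫ = ψ ⟪16⟫ * t → t * t = 1 → t ∉ QA.map ψ → ∀ l, l * ψ ⟪16⟫ = ψ ⟪16⟫ * l →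
      ∃ k ∈ [1, x, x⁻¹, t, t * x, t * x⁻¹], l * k⁻¹ ∈ QA.map ψ)
  big : Cc ψ ⟪5⟫ ⟪10⟫ → (∃ l, Cc ψ ⟪5⟫ l ∧ nz l) → Cc ψ ⟪5⟫ ⟪11⟫ ∧ Cc ψ ⟪5⟫ ⟪14⟫ ∧ (𝐎'[2](𝐂[ψ ⟪16⟫]) = ⊥ →
    ∃ (Y : Type u) (_ : Group Y) (χ : TA →* Y) (x : Y), Mo χ x ∧ Nonempty (𝐂[ψ ⟪16⟫] ≃* Y))

theorem Hy.gz (s : Hy ψ) : Gz ψ := by
  obtain ⟨X, _, _, χ, ρ, h1, h2, h3, h4, ρs, ρk, ρe, h5, h6, h7⟩ := exists_quot pg s.inj s.syl zc md.zz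
  have := s.sol
  obtain ⟨Φ, p⟩ := St.ph ⟨⟨h1, h2⟩, h3⟩ h4 (Group.isSolvable_of_surjective ρs)
  have mc : ∀ {y}, y * ψ ⟪16⟫ = ψ ⟪16⟫ * y → y ∈ 𝐂[ψ ⟪16⟫] := mem_centralizer_singleton_iff.2
  have dn : ∀ (h : 𝐂[ψ ⟪16⟫]) k l, Cj ψ h k l → Cj χ (ρ h) k l := fun h k l e => by
    rw [Cj, ← ρe, ← ρe, ← map_inv, ← map_mul, ← map_mul]
    exact congrArg ρ (Subtype.ext e)
  have dc : ∀ {k l}, Cc ψ k l → ∃ g, Cj χ g k l := fun ⟨h, a, b⟩ => ⟨_, dn ⟨h, mc a.comm⟩ _ _ b⟩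
  have uc : ∀ {k l}, k * k = 1 → (∃ g, Cj χ g k l) → Cc ψ k l := fun kk ⟨g, e⟩ => (h5 _ _ kk ((Cj.sq h1 e).2 kk)).1 ⟨g, e⟩
  have hx : Cc ψ ⟪5⟫ ⟪10⟫ → ∃ y, Φ y = x1 := fun e => let ⟨_, e⟩ := dc e; p.ex1 (.inl rfl) e.symm (by decide +kernel)
  have ρi : 𝐎'[2](𝐂[ψ ⟪16⟫]) = ⊥ → Function.Injective ρ := fun hO =>
    (injective_iff_map_eq_one _).2 fun x hx => Subtype.ext (mem_bot.1 (hO ▸ (ρk x).1 hx))
  refine ⟨h7 _ p.nrm, fun h l l' a b c d e => p.rule (dn ⟨h, mc a.comm⟩ _ _ b) (dn ⟨h, mc a.comm⟩ _ _ c) d e,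
    fun k l a b c => ?_, fun a b => ?_, fun a b => ?_, fun a ⟨l, b, c⟩ => ?_⟩
  · obtain ⟨g, b⟩ := dc b
    obtain ⟨e1, e2, e3⟩ := p.fuse (p.ex1 a b c)
    exact ⟨uc (by decide +kernel) e1, uc (by decide +kernel) e2, uc (by decide +kernel) e3⟩
  · obtain ⟨e, y, y1, y2, y3⟩ := p.six (fun e => a (uc (by decide +kernel) (p.fuse e).1)) (dc b)
    obtain ⟨⟨y, hy⟩, rfl⟩ := ρs y
    obtain ⟨o, o1, n, n1, rfl⟩ := h7 _ e y hy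
    have oC := piCoreOf_le' _ _ o1
    have nC := (mul_mem_cancel_left oC).1 hy
    have e1 : ρ ⟨o * n, hy⟩ = ρ ⟨n, nC⟩ := by
      rw [show (⟨o * n, hy⟩ : 𝐂[ψ ⟪16⟫]) = ⟨o, oC⟩ * ⟨n, nC⟩ from rfl, map_mul, (ρk ⟨o, oC⟩).2 o1, one_mul]
    rw [e1] at y1 y2 y3
    rw [← MonoidHom.range_eq_map] at n1
    have k : ∀ k l, Cj χ (ρ ⟨n, nC⟩) k l → Cj ψ n k l := fun k l e => by
      obtain ⟨l', hl⟩ := (cj_of_mem_normalizer n1).le (conj_mem_cj n ⟨k, rfl⟩)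
      exact Cj.cast (Eq.symm hl) rfl ((dn ⟨n, nC⟩ _ _ (Eq.symm hl)).uniq h1 e)
    exact ⟨n, s.uniqA ((cj_mono n (map_le_range _ _)).trans (cj_of_mem_normalizer n1).le),
      .of_comm (mem_centralizer_singleton_iff.1 nC), y1.imp (k _ _) (k _ _), y2.imp (k _ _) (k _ _), y3.imp (k _ _) (k _ _)⟩
  · obtain ⟨a2, x, b2, b3, b4⟩ := p.sym3 (hx a) fun g l e => b l (uc (by decide +kernel) ⟨g, e⟩)
    refine ⟨h6 a2, fun hO => ?_⟩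
    have ρi := ρi hO
    have mQ : ∀ y : 𝐂[ψ ⟪16⟫], ρ y ∈ QA.map χ ↔ y.1 ∈ QA.map ψ := fun y =>
      ⟨fun ⟨k, k1, k2⟩ => ⟨k, k1, congrArg Subtype.val (ρi ((ρe k).trans k2))⟩,
        fun ⟨k, k1, k2⟩ => ⟨k, k1, (ρe k).symm.trans (congrArg ρ (Subtype.ext k2))⟩⟩
    obtain ⟨x, rfl⟩ := ρs x
    refine ⟨x, ⟨md.es s.inj, congrArg Subtype.val (ρi (show ρ (x * x * x) = ρ 1 by simpa using b2.x3)),
      mul_inv_eq_iff_eq_mul.2 (mem_centralizer_singleton_iff.1 x.2), ?_, ?_⟩, fun u u1 u2 u3 => ?_, fun t t1 t2 t3 l l1 => ?_⟩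
    · rintro _ ⟨k, hk, rfl⟩
      exact (mQ (x * ⟨ψ k, mem_cen (zc k)⟩ * x⁻¹)).1 (by simpa [ρe] using b2.xn _ (mem_map_of_mem χ hk))
    · rintro _ ⟨k, hk, rfl⟩ e
      have := b2.fx _ (mem_map_of_mem χ hk) (by rw [← ρe, ← map_inv, ← map_mul, ← map_mul]; exact congrArg ρ (Subtype.ext e))
      rw [← map_one χ, h1.eq_iff, h1.eq_iff] at this
      rcases this with rfl | rfl <;> simp
    · exact (mQ (⟨u, mc u1⟩ * (x * ⟨u, mc u1⟩ * x⁻¹) * x⁻¹)).1 (by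
        simpa using b3 (ρ ⟨u, mc u1⟩) (by rw [← map_mul, ← map_one ρ]; exact congrArg ρ (Subtype.ext u2)) fun e => u3 ((mQ _).1 e))
    · have := b4 (ρ ⟨t, mc t1⟩) (by rw [← map_mul, ← map_one ρ]; exact congrArg ρ (Subtype.ext t2)) (fun e => t3 ((mQ _).1 e))
        (ρ ⟨l, mc l1⟩)
      simp only [List.mem_cons, List.not_mem_nil, or_false, exists_eq_or_imp, exists_eq_left, ← map_one ρ, ← map_inv, ← map_mul,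
        mQ] at this ⊢
      exact this
  · obtain ⟨g, b⟩ := dc b
    have e := p.ex3 (hx a) b c
    obtain ⟨x, hx⟩ := p.mo e
    exact ⟨uc (by decide +kernel) (p.fuse3 e).1, uc (by decide +kernel) (p.fuse3 e).2,
      fun hO => ⟨X, _, χ, x, hx, ⟨MulEquiv.ofBijective ρ ⟨ρi hO, ρs⟩⟩⟩⟩

end Cfsg.Lib.M12S.TA
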