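import Cfsg.Agent.Lib.A8S.A2

/-!
# Sylow `2`-subgroups of type `A₈`: fusion
-/

set_option autoImplicit false
set_option linter.unusedSectionVars false
set_option maxRecDepth 100000
set_option synthInstance.maxSize 100000
set_option synthInstance.maxHeartbeats 400000

namespace Cfsg.Lib.M12S.TA

open Subgroup Cfsg.Lib.X32 Cfsg.Lib.Core Cfsg.Lib.BG1 Cfsg.Lib.Invol Cfsg.Lib.GW Cfsg.Lib.Gsm Cfsg.Lib.Block.Scn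
open Cfsg.Lib.Amalg hiding le_cent_symm op_top
open Cfsg.Lib.Wal (PC CB)

universe u v

local notation "⟪" n "⟫" => TA.el n

local instance : Fact (Nat.Prime 2) := ⟨Nat.prime_two⟩

variable {G : Type u} [Group G] [Finite G] {ψ : TA →* G} {g h n d e t : G} {k l k' l' : TA} {B K V : Subgroup G}
  {c1 c2 c3 c4 c5 : Bool} {f : ℕ → ℕ} {v : ℕ}

/-- The conjugates of `z` in the elementary abelian subgroup. -/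
def pm (c1 c2 c3 c4 c5 : Bool) : ℕ := Nat.lor (Nat.lor (Nat.lor 2 (cond c1 0xc 0)) (Nat.lor (cond c2 0x30 0) (cond c3 0xc0 0)))
  (Nat.lor (cond c4 0x9500 0) (cond c5 0x6a00 0))
/-- A set is preserved. -/
def Pr (m : ℕ) (f : ℕ → ℕ) : Prop := ∀ v < 16, Nat.testBit m (f v) = Nat.testBit m v
instance (m : ℕ) (f : ℕ → ℕ) : Decidable (Pr m f) := by unfold Pr; infer_instance

/-- The fusion pattern. -/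
structure Pt (ψ : TA →* G) (c1 c2 c3 c4 c5 : Bool) : Prop where
  h1 : Fz ψ ⟪16⟫ ⟪5⟫ ↔ c1 = true
  h2 : Fz ψ ⟪16⟫ ⟪11⟫ ↔ c2 = true
  h3 : Fz ψ ⟪16⟫ ⟪14⟫ ↔ c3 = true
  h4 : Fz ψ ⟪16⟫ ⟪32⟫ ↔ c4 = true
  h5 : Fz ψ ⟪16⟫ ⟪48⟫ ↔ c5 = true

theorem exists_pt (ψ : TA →* G) : ∃ c1 c2 c3 c4 c5, Pt ψ c1 c2 c3 c4 c5 := by
  classical exact ⟨_, _, _, _, _, decide_eq_true_iff.symm, decide_eq_true_iff.symm, decide_eq_true_iff.symm,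
    decide_eq_true_iff.symm, decide_eq_true_iff.symm⟩

theorem fz_cj (e : Cj ψ g k l) : Fz ψ ⟪16⟫ k ↔ Fz ψ ⟪16⟫ l := ⟨fun h => h.cj e, fun h => h.cj e.symm⟩
theorem fz_of {r : TA} (e : r * k * r⁻¹ = l) : Fz ψ ⟪16⟫ k ↔ Fz ψ ⟪16⟫ l := fz_cj (Cj.of' r e)
theorem Cc.fz (e : Cc ψ k l) : Fz ψ ⟪16⟫ k ↔ Fz ψ ⟪16⟫ l := let ⟨_, _, e⟩ := e; fz_cj e

theorem ln_mem {H : Subgroup TA} {a b c d : ℕ} (ha : a < 16 ∧ av a ∈ H) (hb : b < 16 ∧ av b ∈ H) (hc : c < 16 ∧ av c ∈ H)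
    (hd : d < 16 ∧ av d ∈ H) (v : ℕ) : av (ln a b c d v) ∈ H := by
  have k1 : ∀ {a}, a < 16 ∧ av a ∈ H → ∀ c, cond c a 0 < 16 ∧ av (cond c a 0) ∈ H := fun h c => by
    cases c
    exacts [⟨Nat.zero_lt_succ _, av0 ▸ one_mem H⟩, h]
  have k2 : ∀ {a b}, a < 16 ∧ av a ∈ H → b < 16 ∧ av b ∈ H → Nat.xor a b < 16 ∧ av (Nat.xor a b) ∈ H := fun h h' =>
    ⟨(av_xor _ h.1 _ h'.1).1, (av_xor _ h.1 _ h'.1).2 ▸ mul_mem h.2 h'.2⟩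
  exact (k2 (k2 (k1 ha _) (k1 hb _)) (k2 (k1 hc _) (k1 hd _))).2

theorem span4 : ∀ a < 16, ∀ b < 16, a ≠ 0 ∧ b ≠ 0 ∧ a ≠ b → ∀ c < 16, c ≠ 0 ∧ a ≠ c ∧ b ≠ c ∧ Nat.xor a b ≠ c → ∀ d < 16,
    d ≠ 0 ∧ c ≠ d ∧ a ≠ d ∧ b ≠ d ∧ Nat.xor a b ≠ d ∧ a ≠ Nat.xor c d ∧ b ≠ Nat.xor c d ∧ Nat.xor a b ≠ Nat.xor c d →
    ∃ v < 16, ln a b c d v = 1 := by decide +kernel

theorem comm_aux {H : Type*} [Group H] {a g h : H} {i j : ℕ} (h1 : g * a * g⁻¹ = a ^ i) (h2 : h * a * h⁻¹ = a ^ j) :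
    Commute ((h * g)⁻¹ * (g * h)) a := by
  have e1 : g * h * a * (g * h)⁻¹ = a ^ (i * j) := by
    rw [show g * h * a * (g * h)⁻¹ = g * (h * a * h⁻¹) * g⁻¹ by group, h2, ← conj_pow, h1, pow_mul]
  have e2 : h * g * a * (h * g)⁻¹ = a ^ (i * j) := by
    rw [show h * g * a * (h * g)⁻¹ = h * (g * a * g⁻¹) * h⁻¹ by group, h1, ← conj_pow, h2, mul_comm, pow_mul]
  refine mul_inv_eq_iff_eq_mul.1 ?_
  rw [show (h * g)⁻¹ * (g * h) * a * ((h * g)⁻¹ * (g * h))⁻¹ = (h * g)⁻¹ * (g * h * a * (g * h)⁻¹) * (h * g) by group, e1, ← e2]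
  group

theorem norm_le (h : Cm B K ⊤) (tv : TV B K V t) (hF : ∀ f ∈ B, f ∈ CB K → f = 1) (hg : g ∈ 𝐍(B)) : g ∈ 𝐍(K) := by
  by_contra e
  obtain ⟨x, x1, -, -, x2, -⟩ := (tv.conj hg).nc
  exact x2 (hF x ((tv.conj hg).le x1) (cj_le_CB h e ((tv.conj hg).leK x1)))

theorem trans (tv : TV B K V t) (hF : ∀ f ∈ B, f ∈ CB K → f = 1) {a b : G} (ha : a ∈ B) (a1 : a ≠ 1) (hb : b ∈ B) (b1 : b ≠ 1) :
    ∃ i : ℕ, t ^ i * a * (t ^ i)⁻¹ = b := by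
  have k : ∀ a ∈ B, a ∈ V := fun a ha => by
    obtain ⟨v, v1, f, f1, f2, rfl⟩ := tv.dec a ha
    rwa [hF f f1 f2, mul_one]
  exact tv.tr a (k a ha) a1 b (k b hb) b1

namespace Sy

variable (s : Sy ψ)
include s

theorem ne (h : k ≠ 1) : ψ k ≠ 1 := fun e => h (s.inj (e.trans ψ.map_one.symm))

theorem fz_sq (h : Fz ψ ⟪16⟫ k) : k * k = 1 ∧ k ≠ 1 := by
  obtain ⟨g, hg⟩ := isConj_iff.1 h
  exact ⟨(Cj.sq s.inj hg).2 md.zz, Cj.ne s.inj hg md.z1⟩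

theorem sq_of (he : orderOf e = 2) (h : IsConj e (ψ k)) : k * k = 1 ∧ k ≠ 1 := by
  obtain ⟨g, hg⟩ := isConj_iff.1 h
  exact ⟨s.inj (by rw [map_mul, ← hg, conj_mul, mul_self_of_two he]; simp), fun e => ne_one_of_two he (by
    rwa [e, map_one, conj_eq_one_iff] at hg)⟩

theorem two (h : k * k = 1 ∧ k ≠ 1) : orderOf (ψ k) = 2 :=
  (orderOf_injective ψ s.inj _).trans (orderOf_eq_prime (by rw [pow_two, h.1]) h.2)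

theorem kl (h : k * k = 1 ∧ k ≠ 1 ∧ l * l = 1 ∧ l ≠ 1 ∧ l ≠ k ∧ l * k = k * l) : Kl (ψ k) (ψ l) :=
  ⟨s.two ⟨h.1, h.2.1⟩, s.two ⟨h.2.2.1, h.2.2.2.1⟩, s.inj.ne h.2.2.2.2.1, by
    rw [Commute, SemiconjBy, ← map_mul, h.2.2.2.2.2, map_mul]⟩

theorem iff (p : Pt ψ c1 c2 c3 c4 c5) (hv : v < 16) : Fz ψ ⟪16⟫ (av v) ↔ Nat.testBit (pm c1 c2 c3 c4 c5) v = true := by
  rcases (by decide +kernel : ∀ c1 c2 c3 c4 c5, ∀ v < 16, (av v = 1 ∧ Nat.testBit (pm c1 c2 c3 c4 c5) v = false) ∨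
    (av v = ⟪16⟫ ∧ Nat.testBit (pm c1 c2 c3 c4 c5) v = true) ∨
    ((∃ r, r * av v * r⁻¹ = ⟪5⟫) ∧ Nat.testBit (pm c1 c2 c3 c4 c5) v = c1) ∨
    ((∃ r, r * av v * r⁻¹ = ⟪11⟫) ∧ Nat.testBit (pm c1 c2 c3 c4 c5) v = c2) ∨
    ((∃ r, r * av v * r⁻¹ = ⟪14⟫) ∧ Nat.testBit (pm c1 c2 c3 c4 c5) v = c3) ∨
    ((∃ r, r * av v * r⁻¹ = ⟪32⟫) ∧ Nat.testBit (pm c1 c2 c3 c4 c5) v = c4) ∨
    ((∃ r, r * av v * r⁻¹ = ⟪48⟫) ∧ Nat.testBit (pm c1 c2 c3 c4 c5) v = c5)) c1 c2 c3 c4 c5 v hv with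
    ⟨a, b⟩ | ⟨a, b⟩ | ⟨⟨r, a⟩, b⟩ | ⟨⟨r, a⟩, b⟩ | ⟨⟨r, a⟩, b⟩ | ⟨⟨r, a⟩, b⟩ | ⟨⟨r, a⟩, b⟩ <;> rw [b]
  exacts [⟨fun h => absurd a (s.fz_sq h).2, fun h => absurd h (by decide)⟩, ⟨fun _ => rfl, fun _ => a ▸ Fz.refl⟩,
    (fz_of a).trans p.h1, (fz_of a).trans p.h2, (fz_of a).trans p.h3, (fz_of a).trans p.h4, (fz_of a).trans p.h5]

theorem pr (p : Pt ψ c1 c2 c3 c4 c5) (a : Ab ψ g f) : Pr (pm c1 c2 c3 c4 c5) f := fun v hv =>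
  Bool.eq_iff_iff.2 (((s.iff p (a v hv).2.1).symm.trans (fz_cj (a v hv).2.2).symm).trans (s.iff p hv))

theorem pat (hv : v < 16) (h : Fz ψ ⟪16⟫ (av v)) : ∃ n, ∃ q < 16, ∃ r < 16, ∃ w < 16, Ab ψ n (ln v q r w) := by
  obtain ⟨g, hg⟩ := isConj_iff.1 h
  obtain ⟨n, n1, n2, -⟩ := s.ctl (k := ⟪16⟫) (by decide +kernel) (by decide +kernel) (av_mem v hv) (av_mem v hv) hg hg
  obtain ⟨p, hp, q, hq, r, hr, w, hw, a⟩ := exists_ln n1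
  obtain rfl : p = v := ln1.symm.trans (a.val s.inj (by decide) hv n2)
  exact ⟨n, q, hq, r, hr, w, hw, a⟩

theorem pat5 (hn : n ∈ 𝐍(At.map ψ)) (h : Cj ψ n ⟪5⟫ ⟪5⟫) : ∃ p < 16, ∃ r < 16, ∃ w < 16, Ab ψ n (ln p 2 r w) := by
  obtain ⟨p, hp, q, hq, r, hr, w, hw, a⟩ := exists_ln hn
  obtain rfl : q = 2 := ln2.symm.trans (a.val s.inj (by decide) (by decide) h)
  exact ⟨p, hp, r, hr, w, hw, a⟩

theorem toz (h : Fz ψ ⟪16⟫ k) (hk : k ∈ At) : ∃ n ∈ 𝐍(At.map ψ), Cj ψ n k ⟪16⟫ := by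
  obtain ⟨g, hg⟩ := isConj_iff.1 (IsConj.symm h)
  obtain ⟨n, n1, n2, -⟩ := s.ctl hk hk (l := ⟪16⟫) (by decide +kernel) (by decide +kernel) hg hg
  exact ⟨n, n1, n2⟩

theorem f1 (hk : k = ⟪10⟫ ∨ k = ⟪6⟫ ∨ k = ⟪7⟫) (e : Cj ψ g k l) (hl : l ∈ At) : ∃ l ∈ At, Cc ψ k l := by
  obtain ⟨c, c1, m, m1, m2⟩ := s.ext (Sy.A_le hl) (isPGroup_cj g ((pg.to_subgroup 𝐂[k]).map ψ))
    (Sy.cj_le e fun a ha => mem_centralizer_singleton_iff.1 ha)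
  rw [← cj_mul] at m2
  obtain ⟨y, y1, y2⟩ := exA m1 hl
  have y3 : Cj ψ (m * c * g) k y := ((e.comp (.of_comm (mem_centralizer_singleton_iff.1 c1))).comp y2).cast' (mul_assoc _ _ _).symm
  obtain ⟨p, p1, q, q1, e1⟩ := (by decide +kernel : ∀ k, k = ⟪10⟫ ∨ k = ⟪6⟫ ∨ k = ⟪7⟫ → ∃ p ∈ 𝐂[k], ∃ q ∈ 𝐂[k],
    p * q * p⁻¹ * q⁻¹ = ⟪16⟫) k hk
  obtain ⟨p', p2⟩ := Cj.ex m2 p1
  obtain ⟨q', q2⟩ := Cj.ex m2 q1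
  have e2 := (((p2.mul q2).mul p2.inv).mul q2.inv).cast e1 rfl
  obtain ⟨n, n1, n2⟩ := s.toz (Fz.refl.cj e2) ((by decide +kernel : ∀ p q : TA, p * q * p⁻¹ * q⁻¹ ∈ At) p' q')
  obtain ⟨w, w1, w2⟩ := exA n1 y1
  exact ⟨w, w1, _, e2.comp n2, y3.comp w2⟩

theorem sc (z : Gz ψ) (n5 : ¬ Fz ψ ⟪16⟫ ⟪5⟫) (u : Cc ψ ⟪5⟫ ⟪10⟫) (hk : k ∈ At) (e5 : Cj ψ g ⟪5⟫ ⟪5⟫) (e : Cj ψ g k l)
    (hl : l ∈ 𝐂[⟪5⟫]) : l ∈ At := by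
  by_contra h
  have hi := s.inj
  have cA := (by decide +kernel : ∀ a ∈ At, a * a = 1)
  obtain ⟨r, r1, r2⟩ := (by decide +kernel : ∀ l ∈ 𝐂[⟪5⟫], l ∉ At → l * l = 1 → ∃ r, r * ⟪5⟫ * r⁻¹ = ⟪5⟫ ∧ r * l * r⁻¹ = ⟪10⟫) l hl h
    ((Cj.sq hi e).2 (cA k hk))
  have a1 := (e5.comp (Cj.of' r r1)).symm
  have a2 := (e.comp (Cj.of' r r2)).symm
  generalize (ψ r * g)⁻¹ = g at a1 a2
  let F : Subgroup TA := sg (bm 0x84218421) (by decide +kernel)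
  obtain ⟨c, c1, m, m1, m2⟩ := s.ext (le_inf (A_le hk) (A_le (l := ⟪5⟫) (by decide +kernel)))
    (isPGroup_cj g ((pg.to_subgroup F).map ψ)) (le_inf (cj_le a2 (by decide +kernel)) (cj_le a1 (by decide +kernel)))
  rw [← cj_mul] at m2
  obtain ⟨y, y1, y2⟩ := exA m1 (k := ⟪5⟫) (by decide +kernel)
  obtain ⟨x, x1, x2⟩ := exA m1 hk
  have y3 : Cj ψ (m * c * g) ⟪5⟫ y := ((a1.comp (.of_comm (mem_centralizer_singleton_iff.1 c1.2))).comp y2).cast' (mul_assoc _ _ _).symm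
  have x3 : Cj ψ (m * c * g) ⟪10⟫ x := ((a2.comp (.of_comm (mem_centralizer_singleton_iff.1 c1.1))).comp x2).cast' (mul_assoc _ _ _).symm
  obtain ⟨w, w2⟩ := Cj.ex m2 (k := ⟪16⟫) (by decide +kernel)
  have n10 : ¬ Fz ψ ⟪16⟫ ⟪10⟫ := mt u.fz.2 n5
  have w1 : w ∈ At := by
    by_contra h
    obtain ⟨r, hr⟩ := (by decide +kernel : ∃ r, r * (⟪5⟫ * ⟪10⟫) * r⁻¹ = ⟪10⟫)
    rcases (by decide +kernel : ∀ w, w ∉ At → w * w = 1 → ∀ y ∈ At, y * w = w * y → ∀ x ∈ At, x * w = w * x →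
      y = 1 ∨ x = 1 ∨ y = x ∨ y = ⟪16⟫ ∨ x = ⟪16⟫ ∨ y * x = ⟪16⟫) w h ((Cj.sq hi w2).2 md.zz) y y1 ((Cj.com hi y3 w2).2 (zc _))
      x x1 ((Cj.com hi x3 w2).2 (zc _)) with e | e | rfl | rfl | rfl | e
    exacts [Cj.ne hi y3 (by decide +kernel) e, Cj.ne hi x3 (by decide +kernel) e, absurd (Cj.un' hi y3 x3) (by decide +kernel),
      n5 (Fz.refl.cj y3.symm), n10 (Fz.refl.cj x3.symm),
      n10 ((fz_of hr).1 (Fz.refl.cj ((y3.mul x3).cast rfl e).symm))]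
  obtain ⟨n, n1, n2⟩ := s.toz (Fz.refl.cj w2) w1
  obtain ⟨y', y4, y5⟩ := exA n1 y1
  obtain ⟨x', x4, x5⟩ := exA n1 x1
  exact z.rule _ _ _ (w2.comp n2) (y3.comp y5) (x3.comp x5) y4 x4

end Sy

namespace Hy

variable (s : Hy ψ)
include s

theorem transfer {A : Subgroup TA} (hA : ∃ a, ∀ b, ¬ (b * a ∈ A ↔ b ∈ A)) (he : orderOf e = 2) : ∃ k ∈ A, IsConj e (ψ k) := by
  obtain ⟨g, k, h1, h2⟩ := thompson_transfer' s.idx (H := ψ.range) (M := A.map ψ)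
    (Nat.odd_iff.2 (Nat.two_dvd_ne_zero.1 s.syl.not_dvd_index)) (by
      rw [MonoidHom.range_eq_map, relIndex_map_map_of_injective _ _ s.inj, relIndex_top_right, index_eq_two_iff]
      simpa only [xor_iff_not_iff] using hA) he
  exact ⟨k, h1, isConj_iff.2 ⟨g, h2.symm⟩⟩

theorem sol' (h : IsConj (ψ ⟪16⟫) e) : Group.IsSolvable 𝐂[e] := by
  obtain ⟨g, rfl⟩ := isConj_iff.1 h
  have := s.sol
  rw [← cj_centralizer_singleton]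
  exact isSolvable_map _ _

theorem ncb (hK : PC K ⊤) (h : IsConj (ψ ⟪16⟫) e) : e ∉ CB K := fun h1 =>
  cb_false hK h1 (mul_self_of_two ((orderOf_of_isConj h).symm.trans (s.two (by decide +kernel)))) (s.sol' h)

theorem zst : ∃ k, k ≠ ⟪16⟫ ∧ Fz ψ ⟪16⟫ k := by
  by_contra hc
  push Not at hc
  have z2 := s.two (k := ⟪16⟫) (by decide +kernel)
  have : ψ ⟪16⟫ ∈ center G := Block.z_star_center s.hO ⟨z2, fun g hg => by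
    obtain ⟨c, c1, y, hy⟩ := exists_cj' (syl_z s.syl zc) (e := g * ψ ⟪16⟫ * g⁻¹) (mem_centralizer_singleton_iff.2 hg.symm) (by
      rw [conj_mul, mul_self_of_two z2]; simp)
    obtain rfl : y = ⟪16⟫ := by_contra fun e => hc y e ((isConj_iff.2 ⟨g, rfl⟩).trans (isConj_iff.2 ⟨c, hy⟩))
    exact (MulAut.conj c).injective (hy.trans (mul_inv_eq_iff_eq_mul.2 (mem_centralizer_singleton_iff.1 c1)).symm)⟩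
  have : (zpowers (ψ ⟪16⟫)).Normal := ⟨fun x hx g => by
    rwa [mem_center_iff.1 (zpowers_le.2 this hx) g, mul_inv_cancel_right]⟩
  exact ne_one_of_two z2 (mem_bot.1 (s.h2.le (le_pCore (isPGroup_zpowers_two z2) (mem_zpowers _))))

theorem comp {H : Subgroup TA} (hz : ⟪16⟫ ∈ H) (h1 : ∀ k ∈ H, k * k = 1) (h2 : ∀ g k l, k ∈ H → Cj ψ g k l → l ∈ H) :
    SA (H.map ψ) ∧ ∃ K V t, Cm (H.map ψ) K ⊤ ∧ TV (H.map ψ) K V t := by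
  have c : SA (H.map ψ) := sa_of_closed s.syl (by rintro _ ⟨k, hk, rfl⟩; rw [← map_mul, h1 k hk, map_one])
    ⟨map_le_range _ _, by rintro _ ⟨k, hk, rfl⟩ g ⟨l, hl⟩; exact ⟨l, h2 g k l hk hl.symm, hl⟩⟩
  refine ⟨c, by_contra fun h => ?_⟩
  have := normal_of_no_cm c fun K hK => let ⟨V, t, tv⟩ := c.exists_tv hK; h ⟨K, V, t, hK, tv⟩
  rw [s.hO, sup_bot_eq] at this
  exact s.ne md.z1 (mem_bot.1 (s.h2.le (le_pCore (c.pg le_rfl) (mem_map_of_mem ψ hz))))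

theorem par (h : Cm (At.map ψ) K ⊤) (tv : TV (At.map ψ) K V t) {g g' : G} (hg : g ∈ 𝐍(At.map ψ)) (hg' : g' ∈ 𝐍(At.map ψ))
    (e : g ∉ 𝐍(K)) (e' : g' ∉ 𝐍(K)) : g * g' ∈ 𝐍(K) := by
  by_contra e2
  have t1 := tv.conj (inv_mem hg)
  have t2 := tv.conj hg'
  have l1 := t1.leK.trans (cj_le_CB h (mt (inv_mem_iff (H := 𝐍(K))).1 e))
  have l2 := t2.leK.trans (cj_le_CB h e')
  have l3 : cj g' V ≤ CB (cj g⁻¹ K) := by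
    rw [← Wal.cj_CB, le_cj_iff, inv_inv, ← cj_mul]
    exact (cj_mono _ tv.leK).trans (cj_le_CB h e2)
  have k : ∀ {W : Subgroup G}, W ≤ At.map ψ → Wal.NC W → ∃ a < 16, ∃ b < 16, a ≠ 0 ∧ b ≠ 0 ∧ a ≠ b ∧ ψ (av a) ∈ W ∧ ψ (av b) ∈ W ∧
      ψ (av (Nat.xor a b)) ∈ W ∧ Nat.xor a b ≠ 0 := by
    rintro W hW ⟨x, x1, y, y1, x2, y2, xy⟩
    obtain ⟨x, x3, rfl⟩ := hW x1
    obtain ⟨y, y3, rfl⟩ := hW y1
    obtain ⟨a, ha, rfl⟩ := av_ex x x3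
    obtain ⟨b, hb, rfl⟩ := av_ex y y3
    have ab : a ≠ b := fun e => xy (by rw [e])
    exact ⟨a, ha, b, hb, fun e => x2 (by rw [e, av0, map_one]), fun e => y2 (by rw [e, av0, map_one]), ab, x1, y1,
      by rw [(av_xor a ha b hb).2, map_mul]; exact mul_mem x1 y1,
      (by decide +kernel : ∀ a < 16, ∀ b < 16, a ≠ b → Nat.xor a b ≠ 0) a ha b hb ab⟩
  obtain ⟨a, ha, b, hb, a0, b0, ab, a1, b1, ab1, ab0⟩ := k t1.le t1.nc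
  obtain ⟨c, hc, d, hd, c0, d0, cd, c1, d1, cd1, -⟩ := k t2.le t2.nc
  have j : ∀ x y, x < 16 → x ≠ 0 → ψ (av x) ∈ cj g⁻¹ V → ψ (av y) ∈ cj g' V → x ≠ y := by
    rintro x _ x1 x0 h1 h2 rfl
    exact x0 (av_inj _ x1 _ (by decide) (s.inj ((t1.one _ h1 (l3 h2)).trans (by rw [av0, map_one]))))
  have xl := (av_xor a ha b hb).1
  obtain ⟨v, -, hv⟩ := span4 a ha b hb ⟨a0, b0, ab⟩ c hc ⟨c0, j _ _ ha a0 a1 c1, j _ _ hb b0 b1 c1, j _ _ xl ab0 ab1 c1⟩ d hd ⟨d0, cd,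
    j _ _ ha a0 a1 d1, j _ _ hb b0 b1 d1, j _ _ xl ab0 ab1 d1, j _ _ ha a0 a1 cd1, j _ _ hb b0 b1 cd1, j _ _ xl ab0 ab1 cd1⟩
  have := ln_mem (H := (CB K).comap ψ) ⟨ha, l1 a1⟩ ⟨hb, l1 b1⟩ ⟨hc, l2 c1⟩ ⟨hd, l2 d1⟩ v
  rw [hv] at this
  exact s.ncb h.pc (IsConj.refl _) this

theorem hU : Cc ψ ⟪5⟫ ⟪10⟫ := by
  by_contra hU
  have hi := s.inj
  have nb : ∀ g k l, k = ⟪10⟫ ∨ k = ⟪6⟫ ∨ k = ⟪7⟫ → Cj ψ g k l → l ∉ At := fun g k l hk e hl =>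
    let ⟨l, l1, l2⟩ := s.f1 hk e hl; hU (s.gz.ex1 k l hk l2 l1).1
  have cl := (by decide +kernel : ∀ l, l ∉ At → l * l = 1 → (Finset.univ.filter fun a => a * l = l * a).card = 16 ∧
    ∃ b, (b = ⟪10⟫ ∨ b = ⟪6⟫ ∨ b = ⟪7⟫) ∧ ∃ r, r * l * r⁻¹ = b)
  obtain ⟨c, K, V, t, h, tv⟩ := s.comp (H := At) (by decide +kernel) (by decide +kernel) fun g k l hk e => by_contra fun hl => by
    obtain ⟨-, b, b1, r, b2⟩ := cl l hl ((Cj.sq hi e).2 ((by decide +kernel : ∀ k ∈ At, k * k = 1) k hk))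
    exact nb _ b k b1 (e.comp (Cj.of' r b2)).symm hk
  obtain ⟨v, v0, v1, v2, v3, v4⟩ := s.gz.six hU (by
    have t2 := s.two (k := ⟪10⟫) (by decide +kernel)
    obtain ⟨k, k1, k2⟩ := s.transfer (A := sg (bm 0x9696969669696969) (by decide +kernel)) (by decide +kernel) t2
    obtain ⟨g, hg⟩ := isConj_iff.1 k2
    obtain ⟨r, hr⟩ := ((by decide +kernel : ∀ k, bm 0x9696969669696969 k → k * k = 1 → k ∈ At ∨ ∃ r, r * k * r⁻¹ = ⟪6⟫) k k1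
      (s.sq_of t2 k2).1).resolve_left (nb g _ k (.inl rfl) hg)
    obtain ⟨c, -, c1, c2⟩ := cj_into pg (syl_cent (k := ⟪6⟫) pg hi s.syl fun g l e => by
      rw [card_cent, card_cent, (cl l (nb g _ l (.inr (.inl rfl)) e) ((Cj.sq hi e).2 (by decide +kernel))).1]
      decide +kernel) (Cj.comp hg (Cj.of' r hr))
    obtain ⟨p, p1, q, q1, e1⟩ := (by decide +kernel : ∃ p ∈ 𝐂[⟪10⟫], ∃ q ∈ 𝐂[⟪10⟫], p * q * p⁻¹ * q⁻¹ = ⟪16⟫)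
    obtain ⟨p', p2, p3⟩ := c2 (conj_mem_cj _ (mem_map_of_mem ψ p1))
    obtain ⟨q', q2, q3⟩ := c2 (conj_mem_cj _ (mem_map_of_mem ψ q1))
    have p4 : Cj ψ _ p p' := p3.symm
    have q4 : Cj ψ _ q q' := q3.symm
    have e2 := (((p4.mul q4).mul p4.inv).mul q4.inv).cast e1 rfl
    exact ⟨_, e2.cast rfl (((by decide +kernel : ∀ p ∈ 𝐂[⟪6⟫], ∀ q ∈ 𝐂[⟪6⟫], p * q * p⁻¹ * q⁻¹ = 1 ∨
      p * q * p⁻¹ * q⁻¹ = ⟪16⟫) p' p2 q' q2).resolve_left (Cj.ne hi e2 md.z1)), c1⟩)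
  have aK : ∀ a ∈ At, ψ a ∈ 𝐍(K) := fun a ha => c.nK h (mem_map_of_mem ψ ha)
  have pa : ∀ g ∈ 𝐍(At.map ψ), ∀ g' ∈ 𝐍(At.map ψ), g * g' ∈ 𝐍(K) ↔ (g ∈ 𝐍(K) ↔ g' ∈ 𝐍(K)) := fun g hg g' hg' => by
    by_cases a : g ∈ 𝐍(K)
    · simp [a, mul_mem_cancel_left a]
    by_cases b : g' ∈ 𝐍(K)
    · simp [b, mul_mem_cancel_right b]
    simp [a, b, s.par h tv hg hg' a b]
  have pc : ∀ k l, Cz ψ ⟪16⟫ v k l → (ψ k ∈ 𝐍(K) ↔ ψ l ∈ 𝐍(K)) := fun k l e => by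
    have : v * ψ k * v⁻¹ ∈ 𝐍(K) ↔ ψ k ∈ 𝐍(K) := by
      rw [pa _ (mul_mem v0 (TA_N k)) _ (inv_mem v0), pa _ v0 _ (TA_N k), inv_mem_iff]
      by_cases a : v ∈ 𝐍(K) <;> simp [a]
    rcases e with e | e <;> rw [← this, show _ = ψ _ from e]
    rw [map_mul, mul_mem_cancel_right (aK _ (by decide +kernel))]
  have b13 : ψ ⟪13⟫ ∈ 𝐍(K) := by
    have := (pa _ (TA_N ⟪10⟫) _ (TA_N ⟪7⟫)).2 (pc _ _ v2)
    rwa [← map_mul, show ⟪10⟫ * ⟪7⟫ = ⟪13⟫ * (⟪13⟫⁻¹ * (⟪10⟫ * ⟪7⟫)) by group, map_mul,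
      mul_mem_cancel_right (aK _ (by decide +kernel))] at this
  have b7 := (pc _ _ v3).2 b13
  have b10 := (pc _ _ v2).2 b7
  have TK : ∀ k, ψ k ∈ 𝐍(K) := fun k => by
    rcases (by decide +kernel : ∀ k, k ∈ At ∨ ∃ a ∈ At, k = ⟪10⟫ * a ∨ k = ⟪7⟫ * a ∨ k = ⟪13⟫ * a) k with e | ⟨a, a1, rfl | rfl | rfl⟩
    exacts [aK k e, map_mul ψ _ _ ▸ mul_mem b10 (aK a a1), map_mul ψ _ _ ▸ mul_mem b7 (aK a a1), map_mul ψ _ _ ▸ mul_mem b13 (aK a a1)]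
  have hF : ∀ f ∈ At.map ψ, f ∈ CB K → f = 1 := by
    rintro _ ⟨k, hk, rfl⟩ e
    have j : ∀ k r, ψ k ∈ CB K → ψ (k * (r * k * r⁻¹)) ∈ CB K := fun k r e => by
      rw [map_mul, map_mul, map_mul, map_inv]; exact mul_mem e (conj_mem_norm (Wal.mem_norm_CB (TK r)) e)
    rcases (by decide +kernel : ∀ k ∈ At, k = 1 ∨ k = ⟪16⟫ ∨ ∃ r, k * (r * k * r⁻¹) = ⟪16⟫ ∨
      ∃ r', k * (r * k * r⁻¹) * (r' * (k * (r * k * r⁻¹)) * r'⁻¹) = ⟪16⟫) k hk with rfl | rfl | ⟨r, e1 | ⟨r', e1⟩⟩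
    exacts [map_one ψ, (s.ncb h.pc (.refl _) e).elim, (s.ncb h.pc (.refl _) (e1 ▸ j k r e)).elim,
      (s.ncb h.pc (.refl _) (e1 ▸ j _ r' (j k r e))).elim]
  have reg : ∀ d ∈ K, d ∈ 𝐍(At.map ψ) → Cj ψ d ⟪16⟫ ⟪16⟫ → d ∈ 𝐂(At.map ψ) := fun d d1 d2 d3 => by
    obtain ⟨q, hq, r, hr, w, hw, a⟩ := s.stab d2 d3
    obtain ⟨e1, e2⟩ := (by decide +kernel : ∀ q < 8, ∀ r < 8, ∀ w < 16, (∀ v < 16, ln 1 q r w v = 0 → v = 0) →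
      Fx (nf (nf (ln 1 q r w ∘ ln 1 q r w ∘ ln 1 q r w) ∘ nf (ln 1 q r w ∘ ln 1 q r w ∘ ln 1 q r w)) ∘
        nf (nf (ln 1 q r w ∘ ln 1 q r w ∘ ln 1 q r w) ∘ nf (ln 1 q r w ∘ ln 1 q r w ∘ ln 1 q r w))) ∧
      (Fx (ln 1 q r w ∘ ln 1 q r w ∘ ln 1 q r w) →
        Fx (nf (nf (ln 1 q r w ∘ tt 1 ∘ ln 1 q r w ∘ ln 1 q r w ∘ tt 1) ∘ nf (ln 1 q r w ∘ tt 1 ∘ ln 1 q r w ∘ ln 1 q r w ∘ tt 1)) ∘
          nf (nf (ln 1 q r w ∘ tt 1 ∘ ln 1 q r w ∘ ln 1 q r w ∘ tt 1) ∘ nf (ln 1 q r w ∘ tt 1 ∘ ln 1 q r w ∘ ln 1 q r w ∘ tt 1))) ∧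
        (Fx (ln 1 q r w ∘ tt 1 ∘ ln 1 q r w ∘ ln 1 q r w ∘ tt 1) → Fx (ln 1 q r w)))) q hq r hr w hw (a.inj hi)
    have j : ∀ {g f}, Ab ψ g f → g ∈ K → Fx (nf (nf f ∘ nf f) ∘ nf (nf f ∘ nf f)) → Fx f := fun {g f} a h1 e =>
      a.fx hi (odd4 c h hF h1 a.norm (by
        have := ((a.nf.mul a.nf).nf.mul (a.nf.mul a.nf).nf).cen e
        rwa [show g * g * (g * g) = g ^ 4 by simp only [pow_succ, pow_zero, one_mul, mul_assoc]] at this))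
    have t1 : Ab ψ _ (tt 1) := Ab.t (by decide)
    obtain ⟨e3, e4⟩ := e2 (j (a.mul (a.mul a)) (mul_mem d1 (mul_mem d1 d1)) e1)
    refine a.cen (e4 (j (a.mul (t1.mul (a.mul (a.mul t1)))) (mul_mem d1 ?_) e3))
    have := conj_mem_norm (TK (tb 1)) (mul_mem d1 d1)
    rwa [← map_inv, show (tb 1)⁻¹ = tb 1 by decide +kernel, mul_assoc, mul_assoc] at this
  have zA : ψ ⟪16⟫ ∈ At.map ψ := mem_map_of_mem ψ (by decide +kernel)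
  let α := (At.map ψ).normalizerMonoidHom
  have key : ∀ g : 𝐍(At.map ψ), ∃ i : ℕ, α g * α ⟨t, tv.nA⟩ * (α g)⁻¹ = α ⟨t, tv.nA⟩ ^ i := fun g => by
    have d2 := mul_mem (mul_mem g.2 tv.nA) (inv_mem g.2)
    obtain ⟨i, e⟩ := trans tv hF zA (s.ne md.z1) (conj_mem_norm d2 zA) (mt conj_eq_one_iff.1 (s.ne md.z1))
    refine ⟨i, ?_⟩
    rw [← map_inv, ← map_mul, ← map_mul, ← map_pow, eq_comm, ← inv_mul_eq_one, ← map_inv, ← map_mul, ← MonoidHom.mem_ker,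
      normalizerMonoidHom_ker]
    refine reg _ (mul_mem (inv_mem (pow_mem tv.mem i)) (conj_mem_norm (norm_le h tv hF g.2) tv.mem))
      (mul_mem (inv_mem (pow_mem tv.nA i)) d2) ?_
    change (t ^ i)⁻¹ * (g * t * (g : G)⁻¹) * ψ ⟪16⟫ * ((t ^ i)⁻¹ * (g * t * (g : G)⁻¹))⁻¹ = _
    rw [show ∀ a b c : G, a⁻¹ * b * c * (a⁻¹ * b)⁻¹ = a⁻¹ * (b * c * b⁻¹) * a by intros; group, ← e]; group
  obtain ⟨i, e1⟩ := key ⟨ψ ⟪10⟫, TA_N _⟩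
  obtain ⟨j, e2⟩ := key ⟨v, v0⟩
  obtain ⟨m, e3⟩ := trans tv hF zA (s.ne md.z1) (mem_map_of_mem ψ (show ⟪5⟫ ∈ At by decide +kernel)) (s.ne (by decide +kernel))
  have e4 := congrArg (fun β : MulAut (At.map ψ) => (β ⟨_, zA⟩ : G)) ((comm_aux e1 e2).pow_right m).eq
  simp only [← map_pow, ← map_inv, ← map_mul] at e4
  have e5 : (v * ψ ⟪10⟫)⁻¹ * (ψ ⟪10⟫ * v) * t ^ m * ψ ⟪16⟫ * ((v * ψ ⟪10⟫)⁻¹ * (ψ ⟪10⟫ * v) * t ^ m)⁻¹ =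
    t ^ m * ((v * ψ ⟪10⟫)⁻¹ * (ψ ⟪10⟫ * v)) * ψ ⟪16⟫ * (t ^ m * ((v * ψ ⟪10⟫)⁻¹ * (ψ ⟪10⟫ * v)))⁻¹ := e4
  have z1 : Cj ψ ((v * ψ ⟪10⟫)⁻¹ * (ψ ⟪10⟫ * v)) ⟪16⟫ ⟪16⟫ := (v1.comp (Cj.of' _ (by decide +kernel))).comp
    ((Cj.of' ⟪10⟫ (by decide +kernel)).comp v1).symm
  have e6 : Cj ψ ((v * ψ ⟪10⟫)⁻¹ * (ψ ⟪10⟫ * v)) ⟪5⟫ ⟪5⟫ := by
    generalize (v * ψ ⟪10⟫)⁻¹ * (ψ ⟪10⟫ * v) = y at e5 z1 ⊢
    rw [show ∀ a b c : G, a * b * c * (a * b)⁻¹ = a * (b * c * b⁻¹) * a⁻¹ by intros; group,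
      show ∀ a b c : G, a * b * c * (a * b)⁻¹ = a * (b * c * b⁻¹) * a⁻¹ by intros; group, show _ = ψ _ from z1, e3] at e5
    exact e5
  rcases v4 with v4 | v4 <;> exact absurd (((v4.comp (Cj.of ⟪10⟫ _))).uniq hi ((e6.comp
    ((Cj.of' ⟪10⟫ (by decide +kernel)).comp v4)).cast' (by group))) (by decide +kernel)

end Hy

end Cfsg.Lib.M12S.TA
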