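import Cfsg.Agent.Lib.A8S.A3
import Cfsg.Agent.S3332

/-!
# Sylow `2`-subgroups of type `A₈`: classes of involutions
-/

set_option autoImplicit false
set_option linter.unusedSectionVars false
set_option maxRecDepth 100000
set_option synthInstance.maxSize 100000
set_option synthInstance.maxHeartbeats 400000

namespace Cfsg.Lib.M12S.TA

open Subgroup Cfsg.Lib.X32 Cfsg.Lib.Core Cfsg.Lib.BG1 Cfsg.Lib.Invol Cfsg.Lib.GW Cfsg.Lib.Gsm Cfsg.Lib.Block.Scn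
open Cfsg.Lib.Amalg hiding le_cent_symm op_top
open Cfsg.Lib.Wal (PC CB)
open Cfsg.Lib.Transfer (resOf mem_resOf resOf_le le_normalizer_resOf)

universe u v

local notation "⟪" n "⟫" => TA.el n

local instance : Fact (Nat.Prime 2) := ⟨Nat.prime_two⟩

variable {G : Type u} [Group G] [Finite G] {ψ : TA →* G} {g h n d e t : G} {k l k' l' : TA} {B K V : Subgroup G}
  {c1 c2 c3 c4 c5 : Bool} {f : ℕ → ℕ} {v : ℕ}

theorem Cc.symm (h : Cc ψ k l) : Cc ψ l k := let ⟨_, a, b⟩ := h; ⟨_, a.symm, b.symm⟩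

theorem cls : ∀ k : TA, k * k = 1 → k = 1 ∨ k = ⟪16⟫ ∨ ∃ r, r * k * r⁻¹ = ⟪5⟫ ∨ r * k * r⁻¹ = ⟪11⟫ ∨ r * k * r⁻¹ = ⟪14⟫ ∨
    r * k * r⁻¹ = ⟪10⟫ ∨ r * k * r⁻¹ = ⟪6⟫ ∨ r * k * r⁻¹ = ⟪7⟫ ∨ r * k * r⁻¹ = ⟪32⟫ ∨ r * k * r⁻¹ = ⟪48⟫ := by decide +kernel

namespace Hy

variable (s : Hy ψ)
include s

theorem u3 : Cc ψ ⟪5⟫ ⟪10⟫ ∧ Cc ψ ⟪11⟫ ⟪6⟫ ∧ Cc ψ ⟪14⟫ ⟪7⟫ := s.gz.ex1 _ _ (.inl rfl) s.hU.symm (by decide +kernel)

theorem inv_cls (he : orderOf e = 2) : IsConj (ψ ⟪16⟫) e ∨ IsConj (ψ ⟪5⟫) e ∨ IsConj (ψ ⟪11⟫) e ∨ IsConj (ψ ⟪14⟫) e := by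
  obtain ⟨_, -, u⟩ := s.hU
  obtain ⟨k, k1, k2⟩ := s.transfer (A := sg (bm 0x33cc33cccc33cc33) (by decide +kernel)) (by decide +kernel) he
  rcases (by decide +kernel : ∀ k, bm 0x33cc33cccc33cc33 k → k * k = 1 ∧ k ≠ 1 → k = ⟪16⟫ ∨ ∃ r, r * k * r⁻¹ = ⟪5⟫ ∨
    r * k * r⁻¹ = ⟪11⟫ ∨ r * k * r⁻¹ = ⟪14⟫ ∨ r * k * r⁻¹ = ⟪10⟫) k k1 (s.sq_of he k2) with rfl | ⟨r, h | h | h | h⟩
  exacts [.inl k2.symm, .inr (.inl (k2.trans (Cj.of' r h).isConj).symm), .inr (.inr (.inl (k2.trans (Cj.of' r h).isConj).symm)),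
    .inr (.inr (.inr (k2.trans (Cj.of' r h).isConj).symm)), .inr (.inl (u.isConj.trans (k2.trans (Cj.of' r h).isConj).symm))]

theorem core_bot (hs : ∀ e : G, orderOf e = 2 → Group.IsSolvable 𝐂[e]) : 𝐎'[2](𝐂[ψ ⟪16⟫]) = ⊥ := by
  obtain ⟨S, hS⟩ := syl_top_iff.1 s.syl
  have cA := (by decide +kernel : ∀ a ∈ At, ∀ b ∈ At, a * b = b * a ∧ a ^ 2 = 1)
  have hc : IsMulCommutative (At.map ψ) := mulComm_of_forall (by
    rintro _ ⟨a, ha, rfl⟩ _ ⟨b, hb, rfl⟩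
    rw [← map_mul, (cA a ha b hb).1, map_mul])
  have h2 : ∀ a ∈ At.map ψ, a ^ 2 = 1 := by rintro _ ⟨a, ha, rfl⟩; rw [← map_pow, (cA a ha a ha).2, map_one]
  have h16 : Nat.card (At.map ψ) = 16 := by rw [card_map_of_injective s.inj, card_sg]; decide +kernel
  have := Agent.S3332.result (fun h => absurd (h _ hc h2) (by rw [h16]; norm_num)) s.hO S (At.map ψ) (hS ▸ map_le_range _ _)
    ((normal_subgroupOf_iff_le_normalizer (hS ▸ map_le_range _ _)).2 (by rw [hS]; rintro _ ⟨k, rfl⟩; exact TA_N k)) hc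
    (by
      rw [hS]
      refine le_antisymm ?_ (le_inf (map_le_range _ _) (le_centralizer_iff_isMulCommutative.2 hc))
      rintro _ ⟨⟨k, rfl⟩, hk⟩
      exact mem_map_of_mem ψ ((by decide +kernel : ∀ k : TA, ⟪32⟫ * k = k * ⟪32⟫ → k ∈ At) k (s.inj (by
        rw [map_mul, map_mul]; exact hk _ (mem_map_of_mem ψ (by decide +kernel))))))
    (fun h => absurd (h ⊤ inferInstance fun a _ => Subtype.ext (h2 a a.2)) (by rw [card_top, h16]; norm_num)) hs _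
    (s.two (k := ⟪16⟫) (by decide +kernel))
  rw [← map_pPrimeCore_subtype Nat.prime_two, show pPrimeCore 2 _ = ⊥ from this, Subgroup.map_bot]

theorem syl5 (n5 : ¬ Fz ψ ⟪16⟫ ⟪5⟫) : Syl 2 ((𝐂[⟪5⟫]).map ψ) 𝐂[ψ ⟪5⟫] := syl_cent pg s.inj s.syl fun g l e => by
  rw [card_cent, card_cent]
  exact (by decide +kernel : ∀ l : TA, l ≠ 1 → l ≠ ⟪16⟫ → (Finset.univ.filter fun a => a * l = l * a).card ≤
    (Finset.univ.filter fun a => a * ⟪5⟫ = ⟪5⟫ * a).card) l (Cj.ne s.inj e (by decide +kernel))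
    fun e' => n5 (Fz.refl.cj (e.cast rfl e').symm)

end Hy

end Cfsg.Lib.M12S.TA
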