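import Cfsg.Agent.Lib.A8S.A4

/-!
# Sylow `2`-subgroups of type `A₈`: the core of the centraliser in the fusion pattern of `A₈`
-/

set_option autoImplicit false
set_option linter.unusedSectionVars false
set_option maxRecDepth 100000
set_option synthInstance.maxSize 100000
set_option synthInstance.maxHeartbeats 400000

namespace Cfsg.Lib.M12S.TA

open Subgroup Cfsg.Lib.X32 Cfsg.Lib.Core Cfsg.Lib.BG1 Cfsg.Lib.Invol Cfsg.Lib.GW Cfsg.Lib.Gsm Cfsg.Lib.Block.Scn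
open Cfsg.Lib.Amalg hiding le_cent_symm op_top
open Cfsg.Lib.Transfer (resOf mem_resOf resOf_le le_normalizer_resOf)

universe u v

local notation "⟪" n "⟫" => TA.el n

local instance : Fact (Nat.Prime 2) := ⟨Nat.prime_two⟩

variable {G : Type u} [Group G] [Finite G] {ψ : TA →* G} {k l : TA} {c : Bool}

abbrev F2 : Subgroup TA := sg (bm 0x28412841) (by decide +kernel)
abbrev A1t : Subgroup TA := sg (bm 0x4800480000210021) (by decide +kernel)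
abbrev Jt (c : Bool) : Subgroup TA := sg (bm (cond c 0x4800000000200001 0x480000200001)) (by revert c; decide +kernel)
/-- An involution commuting with another. -/
abbrev Dd (a e : TA) : Prop := e * e = 1 ∧ e ≠ 1 ∧ e ≠ a ∧ e * a = a * e

theorem dD : ∀ c, ∀ p < 16, ∀ r < 16, ∀ w < 16, Pr (pm false true true c (!c)) (ln p 2 r w) → ∀ v < 16,
    (av (ln p 2 r w v) ∈ A1t → av v ∈ A1t) ∧ (av (ln p 2 r w v) ∈ Jt c → av v ∈ Jt c) := by decide +kernel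

theorem dE : ∀ c, (∀ a ∈ A1t, a ∈ At ∧ ∀ b ∈ A1t, a ∉ Jt c → b ∉ Jt c → a * b ∈ Jt c) ∧ (∀ a ∈ Jt c, a ∈ At) ∧
    (∀ p ∈ Jt c, p ≠ 1 → ∃ v < 16, av v = p * ⟪5⟫ ∧ Nat.testBit (pm false true true c (!c)) v = true) ∧
    ∃ v < 16, ∃ w < 16, av w = av v * ⟪5⟫ ∧ Nat.testBit (pm false true true c (!c)) v = false ∧
      Nat.testBit (pm false true true c (!c)) w = false ∧ av v * ⟪5⟫ = ⟪5⟫ * av v ∧
      ⟪5⟫ * ⟪5⟫ = 1 ∧ ⟪5⟫ ≠ 1 ∧ av v * av v = 1 ∧ av v ≠ 1 ∧ av v ≠ ⟪5⟫ ∧ av v * ⟪5⟫ = ⟪5⟫ * av v := by decide +kernel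

theorem dF : ∀ a, a = ⟪16⟫ ∨ a = ⟪11⟫ ∨ a = ⟪16⟫ * ⟪11⟫ → a ∈ F2 ∧ a ≠ 1 ∧ ∃ b ∈ Et, ∃ c ∈ Et,
    (b * b = 1 ∧ b ≠ 1 ∧ c * c = 1 ∧ c ≠ 1 ∧ c ≠ b ∧ c * b = b * c) ∧ Dd a b ∧ Dd a c ∧ Dd a (b * c) := by decide +kernel

namespace Hy

variable (s : Hy ψ) (p : Pt ψ false true true c (!c))
include s p

theorem n5 : ¬ Fz ψ ⟪16⟫ ⟪5⟫ := by simp [p.h1]

theorem hn (l : TA) (h : Cc ψ ⟪5⟫ l) : ¬ nz l := fun e => by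
  obtain ⟨r, e | e⟩ := (by decide +kernel : ∀ l, nz l → ∃ r, r * l * r⁻¹ = ⟪11⟫ ∨ r * l * r⁻¹ = ⟪14⟫) l e
  exacts [s.n5 p (h.fz.2 ((fz_of e).2 (p.h2.2 rfl))), s.n5 p (h.fz.2 ((fz_of e).2 (p.h3.2 rfl)))]

theorem step {M N : Subgroup TA} (h1 : ∀ k ∈ 𝐂[⟪5⟫], ψ k ∈ resOf 2 𝐂[ψ ⟪5⟫] → k ∈ N)
    (h2 : ∀ a ∈ N, a ∈ At ∧ ∀ b ∈ N, a ∉ M → b ∉ M → a * b ∈ M) (h3 : ∀ a ∈ M, a ∈ At)
    (h4 : ∀ a < 16, ∀ r < 16, ∀ w < 16, Pr (pm false true true c (!c)) (ln a 2 r w) → ∀ v < 16, av (ln a 2 r w v) ∈ M → av v ∈ M) :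
    ∀ k ∈ 𝐂[⟪5⟫], ψ k ∈ resOf 2 𝐂[ψ ⟪5⟫] → k ∈ M := fun k hk h => by
  by_contra e
  have kA := (h2 k (h1 k hk h)).1
  obtain ⟨g, g1, q, q1, q2⟩ := tr2 (M := M.map ψ) (Transfer.sylowIn_iff.2 (syl_iff_not_dvd.1 (s.syl5 (s.n5 p)))) (s.mm.2 hk) h
    (mt s.mm.1 e) (by
      rintro _ ⟨a, a1, rfl⟩ _ ⟨b, b1, rfl⟩ a3 b3 a2 b2
      rw [← map_mul, s.mm]
      exact (h2 a (h1 a a1 a3)).2 b (h1 b b1 b3) (mt s.mm.2 a2) (mt s.mm.2 b2))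
      (by rw [← map_mul, (by decide +kernel : ∀ k ∈ At, k * k = 1) k kA, map_one])
  obtain ⟨n, n1, n2, n3⟩ := s.ctl kA (k' := ⟪5⟫) (by decide +kernel) (h3 q q1) (l' := ⟪5⟫) (by decide +kernel) (g := g) q2.symm
    (.of_comm (mem_centralizer_singleton_iff.1 g1))
  obtain ⟨a, ha, r, hr, w, hw, b⟩ := s.pat5 n1 n3
  obtain ⟨v, hv, rfl⟩ := av_ex k kA
  exact e (h4 a ha r hr w hw (s.pr p b) v hv (by rw [(b v hv).2.2.uniq s.inj n2]; exact q1))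

theorem inJ : ∀ k ∈ 𝐂[⟪5⟫], ψ k ∈ resOf 2 𝐂[ψ ⟪5⟫] → k ∈ Jt c := by
  refine s.step p (N := A1t) (s.step p (N := At) (fun k hk h => ?_) (by decide +kernel) (by decide +kernel)
    fun a ha r hr w hw e v hv => (dD c a ha r hr w hw e v hv).1) (dE c).1 (dE c).2.1
    fun a ha r hr w hw e v hv => (dD c a ha r hr w hw e v hv).2
  have hP := Transfer.sylowIn_iff.2 (syl_iff_not_dvd.1 (s.syl5 (s.n5 p)))
  refine s.mm.1 ((hP.inf_resOf_le_focalIn.trans (Transfer.focalIn_le_iff.2 ?_)) ⟨s.mm.2 hk, h⟩)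
  rintro _ ⟨a, ha, rfl⟩ u hu ⟨b, hb, e⟩
  have e5 : Cj ψ u ⟪5⟫ ⟪5⟫ := .of_comm (mem_centralizer_singleton_iff.1 hu)
  have e1 : Cj ψ u a b := e.symm
  rw [← e, ← map_inv, ← map_mul, s.mm]
  exact (by decide +kernel : ∀ a ∈ 𝐂[⟪5⟫], ∀ b ∈ 𝐂[⟪5⟫], (a ∈ At ↔ b ∈ At) → a⁻¹ * b ∈ At) a ha b hb
    ⟨fun h => s.sc s.gz (s.n5 p) s.hU h e5 e1 hb, fun h => s.sc s.gz (s.n5 p) s.hU h e5.symm e1.symm ha⟩

theorem exW : ∃ W : Subgroup G, Odd (Nat.card W) ∧ W ⊓ 𝐂[ψ ⟪16⟫] = 𝐎'[2](𝐂[ψ ⟪16⟫]) ∧ (∀ k, ψ k ∈ 𝐍(W)) ∧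
    (∀ Y : Subgroup G, Odd (Nat.card Y) → (∀ k ∈ Et, ψ k ∈ 𝐍(Y)) → Y ≤ W) ∧ 𝐂[ψ ⟪16⟫] ≤ 𝐍(W) ∧
    ∀ k, k * k = 1 → k ≠ 1 → ∃ m ∈ 𝐍(W), Cj ψ m k ⟪16⟫ ∨ Cj ψ m k ⟪5⟫ := by
  have hi := s.inj
  have f11 := p.h2.2 rfl
  have f14 := p.h3.2 rfl
  obtain ⟨u1, u2, u3⟩ := s.u3
  have od : ∀ e, IsConj (ψ ⟪16⟫) e → OD (fun _ => True) e := fun e h => by
    obtain ⟨g, rfl⟩ := isConj_iff.1 h
    exact (s.gz.sym3 s.hU (s.hn p)).1.conj g fun _ _ => trivial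
  have fF : ∀ k ∈ F2, k ≠ 1 → Fz ψ ⟪16⟫ k := fun k hk e => by
    rcases (by decide +kernel : ∀ k ∈ F2, k = 1 ∨ k = ⟪16⟫ ∨ ∃ r, r * k * r⁻¹ = ⟪11⟫ ∨ r * k * r⁻¹ = ⟪6⟫) k hk with h | rfl | ⟨r, h | h⟩
    exacts [absurd h e, Fz.refl, (fz_of h).2 f11, (fz_of h).2 (u2.fz.1 f11)]
  obtain ⟨W1, W2⟩ := signalizer (p := fun _ => True) (E := F2.map ψ) (by
    rintro _ ⟨k, hk, rfl⟩; rw [← map_mul, (by decide +kernel : ∀ k ∈ F2, k * k = 1) k hk, map_one])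
    (by rw [card_map_of_injective hi, card_sg]; decide +kernel) (by
      rintro _ ⟨k, hk, rfl⟩ e; exact ⟨trivial, od _ (fF k hk fun e' => e (by rw [e', map_one]))⟩)
  have NE := norm_Wf (F2.map ψ)
  generalize Wf (F2.map ψ) = W at W1 W2 NE
  have Wz := W2 _ (s.mm.2 (show ⟪16⟫ ∈ F2 by decide +kernel)) (s.ne md.z1)
  have TM : ∀ k, ψ k ∈ 𝐍(W) := fun k => NE (mem_normalizer_of_cj_le (cj_le_iff'.2 (by
    rintro _ ⟨l, hl, rfl⟩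
    exact ⟨_, (by decide +kernel : ∀ k, ∀ l ∈ F2, k * l * k⁻¹ ∈ F2) k l hl, by simp⟩)))
  have mx : ∀ Y : Subgroup G, Odd (Nat.card Y) → (∀ k ∈ Et, ψ k ∈ 𝐍(Y)) → Y ≤ W := fun Y Y1 Y2 => by
    have k : ∀ a, a = ⟪16⟫ ∨ a = ⟪11⟫ ∨ a = ⟪16⟫ * ⟪11⟫ → Y ⊓ 𝐂[ψ a] ≤ W := fun a ha => by
      obtain ⟨a1, a2, b, b1, d, d1, h1, h2, h3, h4⟩ := dF a ha
      have j : ∀ e, Dd a e → Y ⊓ 𝐂[ψ a] ⊓ 𝐂[ψ e] ≤ W := fun e he x hx =>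
        ((W2 _ (s.mm.2 a1) (s.ne a2)).ge (od _ (fF a a1 a2) (ψ e) trivial (by rw [← map_mul, he.1, map_one]) (s.ne he.2.1)
          (hi.ne he.2.2.1) (by rw [← map_mul, he.2.2.2, map_mul]) x (odd_of_mem Y1 hx.1.1) (mem_centralizer_singleton_iff.1 hx.2)
          (mem_centralizer_singleton_iff.1 hx.1.2))).1
      exact (s.kl h1).gen (odd_card_of_le inf_le_left Y1) (mem_norm_inf (Y2 b b1) (le_normalizer (mem_cen h2.2.2.2)))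
        (mem_norm_inf (Y2 d d1) (le_normalizer (mem_cen h3.2.2.2))) (j _ h2) (j _ h3) (map_mul ψ _ _ ▸ j _ h4)
    exact (s.kl (k := ⟪16⟫) (l := ⟪11⟫) (by decide +kernel)).gen Y1 (Y2 _ (by decide +kernel)) (Y2 _ (by decide +kernel))
      (k _ (.inl rfl)) (k _ (.inr (.inl rfl))) (map_mul ψ _ _ ▸ k _ (.inr (.inr rfl)))
  have MW : ∀ g, (∀ k ∈ Et, ∃ l, Cj ψ g⁻¹ k l) → g ∈ 𝐍(W) := fun g h =>
    mem_normalizer_of_cj_le (mx _ (by rwa [card_cj]) fun k hk => by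
      obtain ⟨l, e⟩ := h k hk
      rw [← cj_eq_self_iff, ← cj_mul, show ψ k * g = g * ψ l by rw [← show _ = ψ l from e]; group, cj_mul,
        cj_of_mem_normalizer (TM l)])
  have AM : 𝐍(At.map ψ) ≤ 𝐍(W) := fun n hn => MW n fun k hk =>
    let ⟨l, _, e⟩ := exA (inv_mem hn) ((by decide +kernel : ∀ k ∈ Et, k ∈ At) k hk); ⟨l, e⟩
  have HM : 𝐂[ψ ⟪16⟫] ≤ 𝐍(W) := fun h hh => by
    obtain ⟨o, o1, n, n1, rfl⟩ := s.gz.fr h hh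
    exact mul_mem (le_normalizer (Wz.ge o1).1) (MW n fun k hk =>
      let ⟨l, _, e⟩ := md.exN (inv_mem n1) ((by decide +kernel : ∀ k ∈ Et, k ∈ QA) k hk); ⟨l, e⟩)
  refine ⟨W, W1, Wz, TM, mx, HM, fun k k1 k2 => ?_⟩
  obtain ⟨m, m1, l, l1, m2⟩ : ∃ m ∈ 𝐍(W), ∃ l ∈ At, Cj ψ m k l := by
    have j : ∀ {r a b}, Cc ψ a b → a ∈ At → r * k * r⁻¹ = b → ∃ m ∈ 𝐍(W), ∃ l ∈ At, Cj ψ m k l := fun {r a b} ⟨g, g1, g2⟩ ha e =>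
      ⟨_, mul_mem (inv_mem (HM (mem_centralizer_singleton_iff.2 g1.comm))) (TM r), a, ha, (Cj.of' r e).comp g2.symm⟩
    rcases (by decide +kernel : ∀ k, k * k = 1 → k ∈ At ∨ ∃ r, r * k * r⁻¹ = ⟪10⟫ ∨ r * k * r⁻¹ = ⟪6⟫ ∨ r * k * r⁻¹ = ⟪7⟫) k k1
      with h | ⟨r, h | h | h⟩
    exacts [⟨1, one_mem _, k, h, Cj.id⟩, j u1 (by decide +kernel) h, j u2 (by decide +kernel) h, j u3 (by decide +kernel) h]
  have j : ∀ a ∈ At, IsConj (ψ a) (ψ l) → ∃ m ∈ 𝐍(W), Cj ψ m k a := fun a ha e => by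
    obtain ⟨g, hg⟩ := isConj_iff.1 e.symm
    obtain ⟨n, n1, n2, -⟩ := s.ctl l1 l1 ha ha hg hg
    exact ⟨_, mul_mem (AM n1) m1, m2.comp n2⟩
  have j1 : IsConj (ψ ⟪16⟫) (ψ l) → ∃ m ∈ 𝐍(W), Cj ψ m k ⟪16⟫ ∨ Cj ψ m k ⟪5⟫ := fun h =>
    (j _ (by decide +kernel) h).imp fun _ h => ⟨h.1, .inl h.2⟩
  rcases s.inv_cls (s.two ⟨(Cj.sq hi m2).2 k1, Cj.ne hi m2 k2⟩) with h | h | h | h
  exacts [j1 h, (j _ (by decide +kernel) h).imp fun _ h => ⟨h.1, .inr h.2⟩, j1 (IsConj.trans f11 h), j1 (IsConj.trans f14 h)]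

set_option maxHeartbeats 800000 in
theorem kill : 𝐎'[2](𝐂[ψ ⟪16⟫]) = ⊥ := by
  have hi := s.inj
  have n5 := s.n5 p
  obtain ⟨W, W1, Wz, TM, mx, HM, ct⟩ := s.exW p
  have z2 := s.two (k := ⟪16⟫) (by decide +kernel)
  have v2 := s.two (k := ⟪5⟫) (by decide +kernel)
  have ct' : ∀ e ∈ 𝐍(W), orderOf e = 2 → ∃ m ∈ 𝐍(W), m * e * m⁻¹ = ψ ⟪16⟫ ∨ m * e * m⁻¹ = ψ ⟪5⟫ := fun e e1 e2 => by
    obtain ⟨g, g1, k, hk⟩ := exists_cj' (s.syl.of_le (K := 𝐍(W)) (by rintro _ ⟨k, rfl⟩; exact TM k) le_top) e1 (mul_self_of_two e2)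
    obtain ⟨k1, k2⟩ := s.sq_of e2 (isConj_iff.2 ⟨g, hk⟩)
    obtain ⟨m, m1, m2⟩ := ct k k1 k2
    exact ⟨m * g, mul_mem m1 g1, by rwa [show m * g * e * (m * g)⁻¹ = m * (g * e * g⁻¹) * m⁻¹ by group, hk]⟩
  have cz : ∀ e ∈ 𝐍(W), IsConj (ψ ⟪16⟫) e → ∃ m ∈ 𝐍(W), m * e * m⁻¹ = ψ ⟪16⟫ := fun e e1 e2 => by
    obtain ⟨m, m1, m2⟩ := ct' e e1 (by obtain ⟨g, rfl⟩ := isConj_iff.1 e2; rwa [orderOf_conj])
    exact ⟨m, m1, m2.resolve_right fun e => n5 (e2.trans (isConj_iff.2 ⟨m, e⟩))⟩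
  have KM : 𝐂[ψ ⟪5⟫] ≤ 𝐍(W) := by
    by_contra hK
    have hP := s.syl5 n5
    have EK : ∀ k ∈ Et, ψ k ∈ 𝐂[ψ ⟪5⟫] := fun k hk => mem_cen ((by decide +kernel : ∀ k ∈ Et, k * ⟪5⟫ = ⟪5⟫ * k) k hk)
    have h0 : ¬ resOf 2 𝐂[ψ ⟪5⟫] ≤ 𝐍(W) := fun e => hK (by
      rw [← (Transfer.sylowIn_iff.2 (syl_iff_not_dvd.1 hP)).resOf_sup]
      exact sup_le e (by rintro _ ⟨k, -, rfl⟩; exact TM k))
    have into : ∀ t ∈ resOf 2 𝐂[ψ ⟪5⟫], orderOf t = 2 → ∃ m ∈ 𝐂[ψ ⟪5⟫], ∃ q ∈ 𝐂[⟪5⟫], ψ q = m * t * m⁻¹ ∧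
        ψ q ∈ resOf 2 𝐂[ψ ⟪5⟫] := fun t t1 t2 => by
      obtain ⟨m, m1, m2⟩ := hP.exists_conj_le (isPGroup_zpowers_two t2) (zpowers_le.2 (resOf_le _ t1))
      obtain ⟨q, q1, q2⟩ := m2 (conj_mem_cj m (mem_zpowers _))
      exact ⟨m, m1, q, q1, q2, q2 ▸ conj_mem_norm (le_normalizer_resOf _ m1) t1⟩
    have cv : ∀ g ∈ 𝐂[ψ ⟪5⟫], ∀ t, g * t * g⁻¹ * ψ ⟪5⟫ = g * (t * ψ ⟪5⟫) * g⁻¹ := fun g hg t => by
      rw [← conj_mul, (mem_centralizer_singleton_iff.1 hg), mul_inv_cancel_right]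
    have se : IsStronglyEmbedded (𝐍(W).subgroupOf (resOf 2 𝐂[ψ ⟪5⟫])) := by
      refine stronglyEmbedded_iff.2 ⟨fun e => h0 (subgroupOf_eq_top.1 e), even_iff_two_dvd.2 ?_, fun t g t1 t2 t3 => ?_⟩
      · obtain ⟨t, ht⟩ := exists_prime_orderOf_dvd_card' (G := resOf 2 𝐂[ψ ⟪5⟫]) 2 (by_contra fun e => h0
          ((mx _ (odd_of_not_two_dvd e) fun k hk => le_normalizer_resOf _ (EK k hk)).trans le_normalizer))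
        obtain ⟨m, m1, q, q1, q2, q3⟩ := into t t.2 ((orderOf_coe _).trans ht)
        have : orderOf (⟨_, q3⟩ : resOf 2 𝐂[ψ ⟪5⟫]) = 2 := (orderOf_coe _).symm.trans (by
          change orderOf (ψ q) = 2
          rw [q2, orderOf_conj, orderOf_coe, ht])
        exact this.symm.dvd.trans (orderOf_dvd_natCard _ (show _ ∈ subgroupOf _ _ from TM _))
      have t4 : orderOf (t : G) = 2 := (orderOf_coe _).trans t1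
      have t5 : IsConj (ψ ⟪16⟫) (t * ψ ⟪5⟫) := by
        obtain ⟨m, m1, q, q1, q2, q3⟩ := into t t.2 t4
        obtain ⟨v, hv, e1, e2⟩ := (dE c).2.2.1 q (s.inJ p q q1 q3) (s.sq_of t4 (isConj_iff.2 ⟨m, q2.symm⟩)).2
        have := (s.iff p hv).2 e2
        rw [e1] at this
        exact IsConj.trans this (isConj_iff.2 ⟨m, by rw [map_mul, q2, cv m m1]⟩).symm
      have t6 : (t : G) * ψ ⟪5⟫ ∈ 𝐍(W) := mul_mem t2 (TM _)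
      have t7 : g * ((t : G) * ψ ⟪5⟫) * (g : G)⁻¹ ∈ 𝐍(W) := cv g (resOf_le _ g.2) t ▸ mul_mem t3 (TM ⟪5⟫)
      generalize (t : G) * ψ ⟪5⟫ = x at t5 t6 t7
      obtain ⟨a, a1, a2⟩ := cz _ t6 t5
      obtain ⟨b, b1, b2⟩ := cz _ t7 (t5.trans (isConj_iff.2 ⟨g, rfl⟩))
      have := HM (show b * g * a⁻¹ ∈ _ from mem_centralizer_singleton_iff.2 (mul_inv_eq_iff_eq_mul.1 (by
        nth_rewrite 1 [← a2]; rw [← b2]; simp [mul_assoc])))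
      exact (mul_mem_cancel_left b1).1 ((mul_mem_cancel_right (inv_mem a1)).1 this)
    have Wv : W ⊓ 𝐂[ψ ⟪5⟫] = 𝐎'[2](𝐂[ψ ⟪5⟫]) :=
      le_antisymm (le_core_of_se se (resOf_le _) (le_normalizer_resOf _) (odd_card_of_le inf_le_left W1)
        (fun x hx => ⟨le_normalizer hx.1, mem_resOf hx.2 (Nat.coprime_two_right.2 (odd_of_mem W1 hx.1))⟩)
        fun x hx => mem_norm_inf hx.1 (le_normalizer (resOf_le _ hx.2)))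
        (le_inf (mx _ (odd_core _) fun k hk => le_norm_piCoreOf_self _ _ (EK k hk)) (piCoreOf_le' _ _))
    have Wa : ∀ a b, Kl a b → a ∈ 𝐍(W) → b ∈ 𝐍(W) → Wf (closure {a, b}) = W := fun a b k a1 b1 =>
      Wf_eq W1 k (Kl.mem_left a b) (Kl.mem_right a b) (Kl.closure_le a1 b1) fun e e1 e2 => by
        obtain ⟨m, m1, m2⟩ := ct' e (Kl.closure_le a1 b1 e1) (by
          rcases (k.mem_iff e).1 e1 with rfl | rfl | rfl | rfl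
          exacts [absurd rfl e2, k.ha, k.hb, k.hab])
        rw [← cj_inj (g := m), cj_inf, cj_of_mem_normalizer m1, cj_core, cj_centralizer_singleton]
        rcases m2 with m2 | m2 <;> rw [m2]
        exacts [Wz, Wv]
    have cc : ∀ g a b : G, cj g (closure {a, b}) = closure {g * a * g⁻¹, g * b * g⁻¹} := fun g a b => by
      rw [cj_closure, Set.image_pair]; rfl
    refine hK fun k hk => ?_
    have kv : k * ψ ⟪5⟫ * k⁻¹ = ψ ⟪5⟫ := mul_inv_eq_iff_eq_mul.2 (mem_centralizer_singleton_iff.1 hk)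
    obtain ⟨v, hv, w, hw, e1, e2, e3, e4, e5⟩ := (dE c).2.2.2
    have nj : ¬ Fz ψ ⟪16⟫ (av v) := fun h => by simpa [e2] using (s.iff p hv).1 h
    have nj' : ¬ Fz ψ ⟪16⟫ (av v * ⟪5⟫) := fun h => by simpa [e3] using (s.iff p hw).1 (e1 ▸ h)
    have vj := s.kl e5
    generalize av v = j at nj nj' vj e4
    have j2 := mul_self_of_two (vj.conj k).hb
    have jK : k * ψ j * k⁻¹ ∈ 𝐂[ψ ⟪5⟫] := mul_mem (mul_mem hk (mem_cen e4)) (inv_mem hk)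
    have zK : zpowers (ψ ⟪16⟫ * (k * ψ j * k⁻¹)) ≤ 𝐂[ψ ⟪5⟫] := zpowers_le.2 (mul_mem (mem_cen (by decide +kernel)) jK)
    obtain ⟨c, c1, c2, c3, c4⟩ := exists_central_of_not_isConj (mul_self_of_two z2) j2 fun e =>
      nj (e.trans (isConj_iff.2 ⟨k, rfl⟩).symm)
    have cv : Commute c (ψ ⟪5⟫) := mem_centralizer_singleton_iff.1 (zK c4)
    have c5 : c ≠ ψ ⟪5⟫ := by
      rintro rfl
      obtain ⟨w, w1, e | e⟩ := dih (mul_self_of_two z2) j2 c4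
      · obtain ⟨r, hr⟩ := (by decide +kernel : ∃ r, r * (⟪16⟫ * ⟪5⟫) * r⁻¹ = ⟪5⟫)
        exact n5 ((fz_of hr).1 (isConj_iff.2 ⟨w, by rwa [map_mul]⟩).symm)
      · refine nj' (isConj_iff.2 ⟨k⁻¹ * w, ?_⟩)
        have wv : w * ψ ⟪5⟫ * w⁻¹ = ψ ⟪5⟫ := mul_inv_eq_iff_eq_mul.2 (mem_centralizer_singleton_iff.1 (zK w1))
        rw [← conj_mul, wv, ← eq_mul_inv_iff_mul_eq, inv_of_two v2, ← kv, conj_mul] at e
        rw [show k⁻¹ * w * ψ ⟪16⟫ * (k⁻¹ * w)⁻¹ = k⁻¹ * (w * ψ ⟪16⟫ * w⁻¹) * k by group, e, map_mul]; group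
    have vc : Kl (ψ ⟪5⟫) c := ⟨v2, c1, c5, cv⟩
    have c6 : k⁻¹ * c * k⁻¹⁻¹ ∈ 𝐍(W) := by
      rw [← Wa _ _ vj (TM _) (TM _)]
      refine norm_Wf _ (cj_eq_self_iff.1 ?_)
      rw [inv_inv, cj_mul, cj_mul, cc, kv, cc, cv.eq, c3.eq, mul_inv_cancel_right, mul_inv_cancel_right]
      nth_rewrite 1 [← kv]
      rw [← cc, cj_inv_cj]
    have e1 := Wa _ _ (vc.conj k⁻¹) (by nth_rewrite 1 [← kv]; simpa [mul_assoc] using TM ⟪5⟫) c6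
    rw [← cc, ← cj_Wf, Wa _ _ vc (TM _) (HM (mem_centralizer_singleton_iff.2 c2))] at e1
    exact (inv_mem_iff (H := 𝐍(W))).1 (cj_eq_self_iff.1 e1)
  have := normalizer_eq_top_iff.1 (gen_top (Transfer.sylowIn_iff.2 (syl_iff_not_dvd.1 s.syl)) (by rintro _ ⟨k, rfl⟩; exact TM k)
    (mul_self_of_two z2) (mul_self_of_two v2) n5 (fun g e => HM (mem_centralizer_singleton_iff.2 e))
    (fun g e => KM (mem_centralizer_singleton_iff.2 e))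
    (by rintro _ ⟨k, rfl⟩ k1 k2; exact ct k (hi (by rw [map_mul, k1, map_one])) fun e => k2 (by rw [e, map_one])) (ne_one_of_two z2))
  rw [← Wz, eq_bot_of_pPrimeCore_eq_bot s.hO (N := W) (Nat.coprime_two_right.2 W1), bot_inf_eq]

end Hy

end Cfsg.Lib.M12S.TA
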