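import Cfsg.Agent.Lib.A8S.A4

/-!
# Sylow `2`-subgroups of type `A₈`: one class of conjugates of `z` in the hyperplane
-/

set_option autoImplicit false
set_option linter.unusedSectionVars false
set_option maxRecDepth 100000
set_option synthInstance.maxSize 100000
set_option synthInstance.maxHeartbeats 400000

namespace Cfsg.Lib.M12S.TA

open Subgroup Cfsg.Lib.X32 Cfsg.Lib.Core Cfsg.Lib.BG1 Cfsg.Lib.Invol Cfsg.Lib.GW Cfsg.Lib.Gsm Cfsg.Lib.Block.Scn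
open Cfsg.Lib.Amalg hiding le_cent_symm op_top
open Cfsg.Lib.Wal (PC CB)
open Cfsg.Lib.Transfer (resOf mem_resOf resOf_le le_normalizer_resOf)

universe u v

local notation "⟪" n "⟫" => TA.el n

local instance : Fact (Nat.Prime 2) := ⟨Nat.prime_two⟩

variable {G : Type u} [Group G] [Finite G] {ψ : TA →* G} {g h n d e t : G} {k l k' l' : TA} {B K V : Subgroup G}
  {c1 c2 c3 c4 c5 : Bool} {f : ℕ → ℕ} {v : ℕ}

/-- A linear map on a subgroup of order eight. -/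
def S3 (p q k l : TA) : Prop := ∃ a b c : Bool, k = pw a ⟪16⟫ * (pw b ⟪5⟫ * pw c ⟪10⟫) ∧ l = pw a p * (pw b ⟪5⟫ * pw c q)
instance (p q k l : TA) : Decidable (S3 p q k l) := by unfold S3; infer_instance

theorem dA : ∀ c4 c5, ∀ v < 16, v = 8 ∨ v = 9 → ∀ q < 16, ∀ r < 16, ∀ w < 16, ¬ Pr (pm true false false c4 c5) (ln v q r w) := by
  decide +kernel

namespace Hy

variable (s : Hy ψ)
include s

theorem oneA (p : Pt ψ true false false c4 c5) : False := by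
  have hi := s.inj
  obtain ⟨u1, u2, u3⟩ := s.u3
  have k : ∀ v, v = 8 ∨ v = 9 → ¬ Fz ψ ⟪16⟫ (av v) := fun v hv h => by
    have hv' : v < 16 := by omega
    obtain ⟨n, q, hq, r, hr, w, hw, a⟩ := s.pat hv' h
    exact dA c4 c5 v hv' hv q hq r hr w hw (s.pr p a)
  have n11 : ¬ Fz ψ ⟪16⟫ ⟪11⟫ := by simp [p.h2]
  have n14 : ¬ Fz ψ ⟪16⟫ ⟪14⟫ := by simp [p.h3]
  let F : Subgroup TA := sg (bm 0x84218421) (by decide +kernel)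
  have fF : ∀ k ∈ F, k ≠ 1 → Fz ψ ⟪16⟫ k := fun k hk e => by
    rcases (by decide +kernel : ∀ k ∈ F, k = 1 ∨ k = ⟪16⟫ ∨ ∃ r, r * k * r⁻¹ = ⟪5⟫ ∨ r * k * r⁻¹ = ⟪10⟫) k hk with h | rfl | ⟨r, h | h⟩
    exacts [absurd h e, Fz.refl, (fz_of h).2 (p.h1.2 rfl), (fz_of h).2 (u1.fz.1 (p.h1.2 rfl))]
  obtain ⟨c, K, V, t, h, tv⟩ := s.comp (H := F) (by decide +kernel) (by decide +kernel) fun g a l ha e => by
    by_cases a1 : a = 1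
    · subst a1
      rw [show l = 1 from e.uniq hi Cj.one]; exact one_mem F
    have f := (fF a ha a1).cj e
    rcases (by decide +kernel : ∀ l, l * l = 1 → l ∈ F ∨ ∃ r, r * l * r⁻¹ = ⟪11⟫ ∨ r * l * r⁻¹ = ⟪14⟫ ∨ r * l * r⁻¹ = ⟪6⟫ ∨
      r * l * r⁻¹ = ⟪7⟫ ∨ r * l * r⁻¹ = av 8 ∨ r * l * r⁻¹ = av 9) l (s.fz_sq f).1 with h | ⟨r, h | h | h | h | h | h⟩
    exacts [h, (n11 ((fz_of h).1 f)).elim, (n14 ((fz_of h).1 f)).elim, (n11 (u2.fz.2 ((fz_of h).1 f))).elim,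
      (n14 (u3.fz.2 ((fz_of h).1 f))).elim, (k 8 (.inl rfl) ((fz_of h).1 f)).elim, (k 9 (.inr rfl) ((fz_of h).1 f)).elim]
  have hF : ∀ f ∈ F.map ψ, f ∈ CB K → f = 1 := by
    rintro _ ⟨a, ha, rfl⟩ e
    by_contra h1
    exact s.ncb h.pc (fF a ha fun e => h1 (by rw [e, map_one])) e
  obtain ⟨i, e⟩ := trans tv hF (mem_map_of_mem ψ (show ⟪16⟫ ∈ F by decide +kernel)) (s.ne md.z1)
    (mem_map_of_mem ψ (show ⟪5⟫ ∈ F by decide +kernel)) (s.ne (by decide +kernel))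
  have d1 := pow_mem tv.mem i
  have d2 := pow_mem tv.nA i
  have d3 : Cj ψ (t ^ i) ⟪16⟫ ⟪5⟫ := e
  generalize t ^ i = d at d1 d2 d3
  have sN : ψ ⟪1⟫ ∈ 𝐍(F.map ψ) := mem_normalizer_of_cj_le (cj_le_iff'.2 (by
    rintro _ ⟨l, hl, rfl⟩
    exact ⟨_, (by decide +kernel : ∀ l ∈ F, ⟪1⟫ * l * ⟪1⟫⁻¹ ∈ F) l hl, by simp⟩))
  have s1 : ∀ a ∈ F, Cj ψ (d * ψ ⟪1⟫ * d⁻¹) a a ∨ Cj ψ (d * ψ ⟪1⟫ * d⁻¹) a (a * ⟪5⟫) := fun a ha => by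
    obtain ⟨b, b1, b2⟩ := (cj_of_mem_normalizer (inv_mem d2)).le (conj_mem_cj _ (mem_map_of_mem ψ ha))
    have b3 : Cj ψ d⁻¹ a b := b2.symm
    have b4 : Cj ψ d b a := b3.symm.cast' (inv_inv d)
    exact ((by decide +kernel : ∀ b ∈ F, ⟪1⟫ * b * ⟪1⟫⁻¹ = b ∨ ⟪1⟫ * b * ⟪1⟫⁻¹ = b * ⟪16⟫) b b1).imp
      (fun e => ((b3.comp (Cj.of' _ e)).comp b4).cast' (mul_assoc _ _ _).symm)
      fun e => ((b3.comp (Cj.of' _ e)).comp (b4.mul d3)).cast' (mul_assoc _ _ _).symm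
  have y1 : d * ψ ⟪1⟫ * d⁻¹ * (ψ ⟪1⟫)⁻¹ ∈ K := by
    have := mul_mem d1 (conj_mem_norm (norm_le h tv hF sN) (inv_mem d1))
    rwa [← mul_assoc, ← mul_assoc] at this
  have y2 := mul_mem (mul_mem (mul_mem d2 sN) (inv_mem d2)) (inv_mem sN)
  have j : ∀ a b, b ∈ F → ⟪1⟫ * b * ⟪1⟫⁻¹ = a → ∃ p, (p = b ∨ p = b * ⟪5⟫) ∧ Cj ψ (d * ψ ⟪1⟫ * d⁻¹ * (ψ ⟪1⟫)⁻¹) a p :=
    fun a b hb e => (s1 b hb).elim (fun h => ⟨_, .inl rfl, (Cj.of' _ e).symm.comp h⟩) fun h => ⟨_, .inr rfl, (Cj.of' _ e).symm.comp h⟩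
  obtain ⟨p, p1, p2⟩ := j ⟪16⟫ ⟪16⟫ (by decide +kernel) (by decide +kernel)
  obtain ⟨q, q1, q2⟩ := j ⟪10⟫ ⟪26⟫ (by decide +kernel) (by decide +kernel)
  obtain ⟨r, r1, r2⟩ := j ⟪5⟫ ⟪5⟫ (by decide +kernel) (by decide +kernel)
  obtain rfl : r = ⟪5⟫ := r1.resolve_right fun e => Cj.ne hi r2 (by decide +kernel) (e.trans (by decide +kernel))
  generalize d * ψ ⟪1⟫ * d⁻¹ * (ψ ⟪1⟫)⁻¹ = y at y1 y2 p2 q2 r2
  have j1 : ∀ {a b}, S3 p q a b → Cj ψ y a b := by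
    have k : ∀ {p q : TA}, Cj ψ y p q → ∀ c, Cj ψ y (pw c p) (pw c q) := fun h c => by
      cases c
      exacts [Cj.one, h]
    rintro _ _ ⟨a, b, c, rfl, rfl⟩
    exact (k p2 a).mul ((k r2 b).mul (k q2 c))
  have := odd4 c h hF y1 y2 (by
    rintro _ ⟨a, ha, rfl⟩
    obtain ⟨l1, e1, l2, e2, l3, e3, e4⟩ := (by decide +kernel : ∀ p, p = ⟪16⟫ ∨ p = ⟪16⟫ * ⟪5⟫ → ∀ q, q = ⟪26⟫ ∨ q = ⟪26⟫ * ⟪5⟫ →
      ∀ a ∈ F, ∃ l1, S3 p q a l1 ∧ ∃ l2, S3 p q l1 l2 ∧ ∃ l3, S3 p q l2 l3 ∧ S3 p q l3 a) p p1 q q1 a ha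
    exact (((((j1 e1).comp (j1 e2)).comp (j1 e3)).comp (j1 e4)).cast'
      (by simp only [pow_succ, pow_zero, one_mul, mul_assoc])).comm.symm)
  have e1 := q2.uniq hi (.of_comm (this _ (mem_map_of_mem ψ (show ⟪10⟫ ∈ F by decide +kernel))).symm)
  rcases q1 with rfl | rfl <;> exact absurd e1 (by decide +kernel)

end Hy

end Cfsg.Lib.M12S.TA
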