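import Cfsg.Agent.Lib.A8S.A4

/-!
# Sylow `2`-subgroups of type `A₈`: no conjugates of `z` in the hyperplane
-/

set_option autoImplicit false
set_option linter.unusedSectionVars false
set_option maxRecDepth 100000
set_option synthInstance.maxSize 100000
set_option synthInstance.maxHeartbeats 400000

namespace Cfsg.Lib.M12S.TA

open Subgroup Cfsg.Lib.X32 Cfsg.Lib.Core Cfsg.Lib.BG1 Cfsg.Lib.Invol Cfsg.Lib.GW Cfsg.Lib.Gsm Cfsg.Lib.Block.Scn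
open Cfsg.Lib.Amalg hiding le_cent_symm op_top
open Cfsg.Lib.Wal (PC CB)
open Cfsg.Lib.Transfer (resOf mem_resOf resOf_le le_normalizer_resOf)

universe u v

local notation "⟪" n "⟫" => TA.el n

local instance : Fact (Nat.Prime 2) := ⟨Nat.prime_two⟩

variable {G : Type u} [Group G] [Finite G] {ψ : TA →* G} {g h n d e t : G} {k l k' l' : TA} {B K V : Subgroup G}
  {c1 c2 c3 c4 c5 : Bool} {f : ℕ → ℕ} {v : ℕ}

theorem dB : ∀ c4 c5, ∀ v < 16, v = 8 ∨ v = 9 → ∀ q < 16, ∀ r < 16, ∀ w < 16,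
    Pr (pm false false false c4 c5) (ln v q r w) → ∃ b < 4, ∃ c < 4,
      av ((ln v q r w ∘ tt b ∘ ln v q r w ∘ tt c ∘ ln v q r w) 1) = ⟪16⟫ ∧
      nz (av ((ln v q r w ∘ tt b ∘ ln v q r w ∘ tt c ∘ ln v q r w) 2)) := by decide +kernel

theorem av12 : av 1 = ⟪16⟫ ∧ av 2 = ⟪5⟫ := by decide +kernel

namespace Hy

variable (s : Hy ψ)
include s

theorem beta (p : Pt ψ false false false c4 c5) : ∃ l, Cc ψ ⟪5⟫ l ∧ nz l := by
  obtain ⟨u1, u2, u3⟩ := s.u3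
  have n5 : ¬ Fz ψ ⟪16⟫ ⟪5⟫ := by simp [p.h1]
  have n11 : ¬ Fz ψ ⟪16⟫ ⟪11⟫ := by simp [p.h2]
  have n14 : ¬ Fz ψ ⟪16⟫ ⟪14⟫ := by simp [p.h3]
  obtain ⟨v, hv, f⟩ : ∃ v, (v = 8 ∨ v = 9) ∧ Fz ψ ⟪16⟫ (av v) := by
    obtain ⟨k, k1, f⟩ := s.zst
    rcases cls k (s.fz_sq f).1 with h | h | ⟨r, h | h | h | h | h | h | h | h⟩
    exacts [absurd h (s.fz_sq f).2, absurd h k1, (n5 ((fz_of h).1 f)).elim, (n11 ((fz_of h).1 f)).elim, (n14 ((fz_of h).1 f)).elim,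
      (n5 (u1.fz.2 ((fz_of h).1 f))).elim, (n11 (u2.fz.2 ((fz_of h).1 f))).elim, (n14 (u3.fz.2 ((fz_of h).1 f))).elim,
      ⟨8, .inl rfl, (fz_of (h.trans (by decide +kernel))).1 f⟩, ⟨9, .inr rfl, (fz_of (h.trans (by decide +kernel))).1 f⟩]
  have hv' : v < 16 := by omega
  obtain ⟨n, q, hq, r, hr, w, hw, a⟩ := s.pat hv' f
  obtain ⟨b, hb, c, hc, e1, e2⟩ := dB c4 c5 v hv' hv q hq r hr w hw (s.pr p a)
  have a1 := a.mul ((Ab.t hb).mul (a.mul ((Ab.t hc).mul a)))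
  exact ⟨_, ⟨_, (a1 1 (by decide)).2.2.cast av12.1 e1, (a1 2 (by decide)).2.2.cast av12.2 rfl⟩, e2⟩

theorem sol5 (p : Pt ψ false false false c4 c5) : Group.IsSolvable 𝐂[ψ ⟪5⟫] := by
  have hi := s.inj
  have n5 : ¬ Fz ψ ⟪16⟫ ⟪5⟫ := by simp [p.h1]
  have hP := (s.syl5 n5).subgroupOf_top
  have c5' : ∀ g : 𝐂[ψ ⟪5⟫], Cj ψ g ⟪5⟫ ⟪5⟫ := fun g => .of_comm (mem_centralizer_singleton_iff.1 g.2)
  have c : SA ((At.map ψ).subgroupOf 𝐂[ψ ⟪5⟫]) := sa_of_closed hP (by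
    rintro a ⟨k, hk, e⟩
    exact Subtype.ext (by
      rw [coe_mul, ← show ψ k = a from e, ← map_mul, (by decide +kernel : ∀ k ∈ At, k * k = 1) k hk, map_one]; rfl))
    ⟨subgroupOf_mono _ (map_mono (show ∀ k ∈ At, k ∈ 𝐂[⟪5⟫] by decide +kernel)), by
      rintro a ⟨k, hk, e⟩ g ⟨l, hl, e'⟩
      exact ⟨l, s.sc s.gz n5 s.hU hk (c5' g) (by rw [Cj, show ψ k = a from e]; exact e'.symm) hl, e'⟩⟩
  have hn := normal_of_no_cm c fun K h => by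
    obtain ⟨V, t, tv⟩ := c.exists_tv h
    have tN : (t : G) ∈ 𝐍(At.map ψ) := by
      have := le_normalizer_map (𝐂[ψ ⟪5⟫]).subtype (mem_map_of_mem _ tv.nA)
      rwa [map_subgroupOf_of_le (Sy.A_le (by decide +kernel))] at this
    obtain ⟨a, ha, r, hr, w, hw, b⟩ := s.pat5 tN (c5' t)
    obtain ⟨o, o1, o2, o3⟩ := (by decide +kernel : ∀ c4 c5, ∀ a < 16, ∀ r < 16, ∀ w < 16,
      Pr (pm false false false c4 c5) (ln a 2 r w) → ∃ o < 16, Nat.testBit (pm false false false c4 c5) o = true ∧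
      (ln a 2 r w ∘ ln a 2 r w) o = o) c4 c5 a ha r hr w hw (s.pr p b)
    have oC : ψ (av o) ∈ 𝐂[ψ ⟪5⟫] := Sy.A_le (by decide +kernel) (mem_map_of_mem ψ (av_mem o o1))
    have f := (s.iff p o1).2 o2
    have t1 : Commute (t * t) ⟨_, oC⟩ := Subtype.ext (((b.mul b) o o1).2.2.cast rfl (by rw [o3])).comm
    obtain ⟨m, hm⟩ := exists_pow_eq_self_of_coprime (x := t) (n := 2) (Nat.coprime_two_left.2 tv.odd)
    have t2 : Commute t ⟨_, oC⟩ := by rw [← hm, pow_two]; exact t1.pow_left m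
    obtain ⟨x, x1, y, y1, y2, e⟩ := tv.dec ⟨_, oC⟩ (mem_map_of_mem ψ (av_mem o o1))
    have x2 : x ≠ 1 := by
      rintro rfl
      rw [one_mul] at e
      have := s.sol' f
      refine cb_false h.pc y2 (c.sq y y1) (Group.isSolvable_of_isSolvable_injective
        (f := ((𝐂[ψ ⟪5⟫]).subtype.comp (𝐂[y]).subtype).codRestrict 𝐂[ψ (av o)] fun z => mem_centralizer_singleton_iff.2 ?_) ?_)
      · have h1 : (z : 𝐂[ψ ⟪5⟫]) * y = y * z := mem_centralizer_singleton_iff.1 z.2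
        have h2 : ψ (av o) = y := congrArg Subtype.val e
        rw [h2]
        exact congrArg Subtype.val h1
      · intro a b e
        have h1 := congrArg Subtype.val e
        exact Subtype.ext (Subtype.ext h1)
    have t3 : Commute t x := by
      have e1 : Commute t y := mul_inv_eq_iff_eq_mul.1 (c.fix h tv.mem tv.nA y1 y2)
      rw [show x = x * y * y⁻¹ by group, ← e]
      exact t2.mul_right e1.inv_right
    obtain ⟨a, a1, b, b1, a2, b2, ab⟩ := tv.nc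
    obtain ⟨i, hi⟩ := tv.tr x x1 x2 a a1 a2
    obtain ⟨j, hj⟩ := tv.tr x x1 x2 b b1 b2
    exact ab (by rw [← hi, ← hj, (t3.pow_left i).eq, (t3.pow_left j).eq, mul_inv_cancel_right, mul_inv_cancel_right])
  have := solvable_of_pgroup Nat.prime_two (c.pg le_rfl)
  have := solvable_of_odd (K := pPrimeCore 2 𝐂[ψ ⟪5⟫]) (Nat.coprime_two_right.1 (coprime_card_pPrimeCore 2 _))
  have := isSolvable_sup_of_le_normalizer (H := (At.map ψ).subgroupOf 𝐂[ψ ⟪5⟫]) (K := pPrimeCore 2 𝐂[ψ ⟪5⟫]) le_normalizer_of_normal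
  generalize hN : (At.map ψ).subgroupOf 𝐂[ψ ⟪5⟫] ⊔ pPrimeCore 2 𝐂[ψ ⟪5⟫] = N at hn this
  have h1 := hP.map_top (QuotientGroup.mk'_surjective N)
  have bC : ψ ⟪10⟫ ∈ 𝐂[ψ ⟪5⟫] := mem_cen (by decide +kernel)
  have h2 : (((𝐂[⟪5⟫]).map ψ).subgroupOf 𝐂[ψ ⟪5⟫]).map (QuotientGroup.mk' N) = zpowers (QuotientGroup.mk' N ⟨_, bC⟩) := by
    refine le_antisymm ?_ (zpowers_le.2 (mem_map_of_mem _ (mem_map_of_mem ψ (show ⟪10⟫ ∈ 𝐂[⟪5⟫] by decide +kernel))))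
    rintro _ ⟨x, ⟨k, hk, e⟩, rfl⟩
    have j : ∀ y : 𝐂[ψ ⟪5⟫], y.1 ∈ At.map ψ → QuotientGroup.mk' N y = 1 := fun y hy =>
      (QuotientGroup.eq_one_iff y).2 (hN ▸ mem_sup_left hy)
    rcases (by decide +kernel : ∀ k ∈ 𝐂[⟪5⟫], k ∈ At ∨ ⟪10⟫⁻¹ * k ∈ At) k hk with h | h
    · rw [j x ⟨k, h, e⟩]; exact one_mem _
    · have := j (⟨_, bC⟩⁻¹ * x) ⟨_, h, by rw [map_mul, map_inv, show ψ k = x from e]; rfl⟩
      rw [map_mul, map_inv, inv_mul_eq_one] at this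
      exact this ▸ mem_zpowers _
  rw [h2] at h1
  have h3 := Transfer.sylowIn_iff.2 (syl_iff_not_dvd.1 h1)
  have := solvable_of_odd (odd_of_not_two_dvd (pnil_of_cyclic h3 inferInstance))
  have := solvable_of_pgroup Nat.prime_two h1.isPGroup
  have := isSolvable_sup_of_le_normalizer (le_top.trans (le_normalizer_resOf (p := 2) (⊤ : Subgroup (𝐂[ψ ⟪5⟫] ⧸ N))) :
    zpowers (QuotientGroup.mk' N ⟨_, bC⟩) ≤ _)
  rw [sup_comm, h3.resOf_sup] at this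
  have := Group.isSolvable_of_surjective (f := (⊤ : Subgroup (𝐂[ψ ⟪5⟫] ⧸ N)).subtype) fun x => ⟨⟨x, trivial⟩, rfl⟩
  exact isSolvable_of_normal_of_quotient N

end Hy

end Cfsg.Lib.M12S.TA
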