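import Cfsg.Agent.Lib.A8S.A5
import Cfsg.Agent.Lib.A8S.B4
import Cfsg.Agent.Lib.A8S.C4
import Cfsg.Agent.Lib.X32.M12

/-!
# Sylow `2`-subgroups of type `A₈` with solvable centraliser of the central involution
-/

set_option autoImplicit false
set_option linter.unusedSectionVars false
set_option maxRecDepth 100000
set_option synthInstance.maxSize 100000
set_option synthInstance.maxHeartbeats 400000

namespace Cfsg.Lib.M12S.TA

open Subgroup Cfsg.Lib.X32 Cfsg.Lib.Core Cfsg.Lib.BG1 Cfsg.Lib.Invol Cfsg.Lib.GW Cfsg.Lib.Gsm Cfsg.Lib.Block.Scn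
open Cfsg.Lib.Amalg hiding le_cent_symm op_top

universe u v

local notation "⟪" n "⟫" => TA.el n

local instance : Fact (Nat.Prime 2) := ⟨Nat.prime_two⟩

variable {G : Type u} [Group G] [Finite G] {ψ : TA →* G} {k l : TA} {c1 c2 c3 c4 c5 : Bool}

/-- An automorphism of order three. -/
def α : TA →* TA := MonoidHom.mk' (fun a => el (Nat.shiftRight
  0xdb5df4fbdffceb9ef8cb1cf09a59e4badbecaa9ae88a18e05955d479d7dc6996d84914d01851c438d3cc2892c80810c0 (Nat.mul 6 a.1)))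
  (by decide +kernel)

theorem α_bij : Function.Bijective α := ⟨by unfold Function.Injective; decide +kernel, by unfold Function.Surjective; decide +kernel⟩

theorem Hy.rot (s : Hy ψ) : Hy (ψ.comp α) :=
  ⟨⟨s.inj.comp α_bij.1, by
    rw [MonoidHom.range_comp, MonoidHom.range_eq_top.2 α_bij.2, ← MonoidHom.range_eq_map]; exact s.syl⟩, s.idx, s.hO, s.h2, by
    rw [MonoidHom.comp_apply, show α ⟪16⟫ = ⟪16⟫ by decide +kernel]; exact s.sol⟩

theorem Pt.rot (p : Pt ψ c1 c2 c3 c4 c5) : Pt (ψ.comp α) c2 c3 c1 c4 c5 := by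
  have k : ∀ a b, α a = b → (Fz (ψ.comp α) ⟪16⟫ a ↔ Fz ψ ⟪16⟫ b) := fun a b e => by
    rw [Fz, MonoidHom.comp_apply, MonoidHom.comp_apply, e, show α ⟪16⟫ = ⟪16⟫ by decide +kernel, Fz]
  exact ⟨(k _ _ (by decide +kernel)).trans p.h2, (k _ _ (by decide +kernel)).trans p.h3, (k _ _ (by decide +kernel)).trans p.h1,
    (k _ _ (by decide +kernel)).trans p.h4, (k _ _ (by decide +kernel)).trans p.h5⟩

/-- The conclusion. -/
def Res (G : Type u) [Group G] [Finite G] : Prop := Nonempty (G ≃* alternatingGroup (Fin 8)) ∨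
  Nonempty (G ≃* alternatingGroup (Fin 9)) ∨
  ∃ (ψ : TA →* G) (Y : Type u) (_ : Group Y) (χ : TA →* Y) (x : Y), Hy ψ ∧ Mo χ x ∧ Nonempty (𝐂[ψ ⟪16⟫] ≃* Y)

theorem dC : ∀ c4 c5, ∀ q < 16, ∀ r < 16, ∀ w < 16, Pr (pm false true true c4 c5) (ln 4 q r w) → c5 = !c4 := by decide +kernel

namespace Hy

variable (s : Hy ψ)
include s

theorem fin (hO : 𝐎'[2](𝐂[ψ ⟪16⟫]) = ⊥) (hn : ∀ l, Cc ψ ⟪5⟫ l → ¬ nz l) (hk : k ∈ QA) (k1 : k ≠ ⟪16⟫) (f : Fz ψ ⟪16⟫ k) :
    Res G := by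
  obtain ⟨x, h1, h2, h3⟩ := (s.gz.sym3 s.hU hn).2 hO
  obtain ⟨g, hg⟩ := isConj_iff.1 f
  rcases h1.main (by rw [card_map_of_injective s.inj]; exact md.card) (fun l hl q hq => by
    obtain ⟨o, o1, n, n1, rfl⟩ := s.gz.fr l (mem_centralizer_singleton_iff.2 hl)
    rw [mem_bot.1 (hO.le o1), one_mul]; exact conj_mem_norm n1 hq) h2 h3 (g := g) (hg ▸ mem_map_of_mem ψ hk)
    (hg ▸ s.inj.ne k1) with ⟨N, hn, -, -, h5, -⟩ | h | h | ⟨⟨e⟩⟩
  · have := (le_pCore (IsPGroup.of_card (p := 2) (n := 3) h5)).trans s.h2.le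
    rw [le_bot_iff.1 this] at h5
    simp at h5
  · exact .inl h
  · exact .inr (.inl h)
  obtain ⟨φ, su⟩ := m12_model
  have o8 : orderOf (e.symm (φ (HB.el 34))) = 2 ^ 3 := by
    rw [MulEquiv.orderOf_eq, orderOf_injective φ su.inj]
    exact orderOf_eq_prime_pow (p := 2) (n := 2) (by decide +kernel) (by decide +kernel)
  obtain ⟨m, -, m2⟩ := s.syl.exists_conj_le (IsPGroup.of_card ((Nat.card_zpowers _).trans o8)) le_top
  obtain ⟨q, q2⟩ := m2 (conj_mem_cj m (mem_zpowers _))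
  have := orderOf_dvd_of_pow_eq_one ((by decide +kernel : ∀ q : TA, q ^ 4 = 1) q)
  rw [← orderOf_injective ψ s.inj, q2, orderOf_conj, o8] at this
  exact absurd this (by norm_num)

theorem two' (p : Pt ψ false true true c4 c5) : Res G := by
  obtain ⟨n, q, hq, r, hr, w, hw, a⟩ := s.pat (v := 4) (by decide) ((show ⟪11⟫ = av 4 by decide +kernel) ▸ p.h2.2 rfl)
  obtain rfl := dC c4 c5 q hq r hr w hw (s.pr p a)
  exact s.fin (s.kill p) (s.hn p) (k := ⟪11⟫) (by decide +kernel) (by decide +kernel) (p.h2.2 rfl)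

theorem big' (hO : 𝐎'[2](𝐂[ψ ⟪16⟫]) = ⊥) (h : ∃ l, Cc ψ ⟪5⟫ l ∧ nz l) : Res G :=
  let ⟨Y, _, χ, x, a, b⟩ := (s.gz.big s.hU h).2.2 hO; .inr (.inr ⟨ψ, Y, _, χ, x, s, a, b⟩)

theorem main : Res G := by
  obtain ⟨c1, c2, c3, c4, c5, p⟩ := exists_pt ψ
  cases c1 <;> cases c2 <;> cases c3
  · have b := s.beta p
    obtain ⟨⟨_, -, b1⟩, ⟨_, -, b2⟩, -⟩ := s.gz.big s.hU b
    refine s.big' (s.core_bot fun e he => ?_) b
    have k : IsConj (ψ ⟪5⟫) e → Group.IsSolvable 𝐂[e] := fun h => by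
      obtain ⟨g, rfl⟩ := isConj_iff.1 h
      have := s.sol5 p
      rw [← cj_centralizer_singleton]
      exact isSolvable_map _ _
    rcases s.inv_cls he with h | h | h | h
    exacts [s.sol' h, k h, k (b1.isConj.trans h), k (b2.isConj.trans h)]
  · exact (s.rot.rot.oneA p.rot.rot).elim
  · exact (s.rot.oneA p.rot).elim
  · exact s.two' p
  · exact (s.oneA p).elim
  · exact s.rot.two' p.rot
  · exact s.rot.rot.two' p.rot.rot
  have hO := s.core_bot fun e he => s.sol' (by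
    rcases s.inv_cls he with h | h | h | h
    exacts [h, IsConj.trans (p.h1.2 rfl) h, IsConj.trans (p.h2.2 rfl) h, IsConj.trans (p.h3.2 rfl) h])
  by_cases h : ∃ l, Cc ψ ⟪5⟫ l ∧ nz l
  · exact s.big' hO h
  · exact s.fin hO (fun l a b => h ⟨l, a, b⟩) (k := ⟪5⟫) (by decide +kernel) (by decide +kernel) (p.h1.2 rfl)

end Hy

/-- A faithful action on eight points. -/
def pf (a : TA) (i : Fin 8) : Fin 8 := ⟨Nat.mod (Nat.shiftRight
  0x97e0d1dcb82aaf2e44e1d2a64253deb374431eb98a878cd5cab80f778d11419be6b02e73ac7474e21a9e67e11508b9af650d3d0ac78f3075735a1bd8f99aa02c2f74c8c62f7561391cc7aa8560fdfa52982f7544332f4359d3e0950cf9dec60a9774c1f8b8a8af8c54c9d2270a539fb3e0535ab9c8872ec5e2b88e772f01099ba7b10c7bad607cca1a1f67750540b9ee642f3542c7ce31617b1e1b9add9a222d0d7ce0c6ae74753158c7e88474f5de521a2fe154338d531dd3a2942ef1fac688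
  (Nat.mul 3 (Nat.add (Nat.mul 8 a.1) i.1))) 8, Nat.mod_lt _ (by decide)⟩

theorem pf_inv : ∀ a i, pf a⁻¹ (pf a i) = i ∧ pf a (pf a⁻¹ i) = i := by decide +kernel

/-- The permutation representation. -/
def ρ0 : TA →* Equiv.Perm (Fin 8) := MonoidHom.mk' (fun a => ⟨pf a, pf a⁻¹, fun i => (pf_inv a i).1, fun i => (pf_inv a i).2⟩)
  fun a b => Equiv.ext ((by decide +kernel : ∀ a b i, pf (a * b) i = pf a (pf b i)) a b)

theorem exists_hom (S : Sylow 2 G) (h : ∀ P : Sylow 2 (alternatingGroup (Fin 8)), Nonempty (S ≃* P)) :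
    ∃ ψ : TA →* G, Function.Injective ψ ∧ ψ.range = S := by
  let ρ := ρ0.codRestrict (alternatingGroup (Fin 8)) fun a =>
    Equiv.Perm.mem_alternatingGroup.2 ((by decide +kernel : ∀ a, Equiv.Perm.sign (ρ0 a) = 1) a)
  have i1 : Function.Injective ρ := (injective_iff_map_eq_one _).2 fun a e =>
    (by decide +kernel : ∀ a, (∀ i, pf a i = i) → a = 1) a fun i => congrArg (fun x : alternatingGroup (Fin 8) => x.1 i) e
  obtain ⟨P, hP⟩ := (pg.of_surjective _ ρ.rangeRestrict_surjective).exists_le_sylow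
  have hg : ρ.range = P := eq_of_le_of_card_ge hP (by
    rw [(a8_center P).1, ← Nat.card_congr (MonoidHom.ofInjective i1).toEquiv, card])
  obtain ⟨e⟩ := h P
  let e1 : TA ≃* S := (MonoidHom.ofInjective i1).trans ((MulEquiv.subgroupCongr hg).trans e.symm)
  exact ⟨(S : Subgroup G).subtype.comp e1.toMonoidHom, Subtype.val_injective.comp e1.injective, by
    rw [MonoidHom.range_comp, MonoidHom.range_eq_top.2 e1.surjective, ← MonoidHom.range_eq_map, range_subtype]⟩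

end Cfsg.Lib.M12S.TA
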